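import Mathlib
import Cfsg.Agent.H34.SymEight.Data
import Cfsg.Agent.H87.SymEightEndgameFacts
import Cfsg.Agent.H20.Generation
import Cfsg.Agent.H6.Basic
import Cfsg.Agent.S3331

/-!
The odd index endgame of the three-local recognition of the symmetric group of degree eight:
a group with a subgroup `A5 × A5` of odd index containing the centralisers of its elements of
order three is equal to it.
-/

set_option autoImplicit false

namespace Cfsg.Agent.H87.SymEight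

open scoped IsMulCommutative

local notation "A5" => alternatingGroup (Fin 5)

universe u

/-- The four group. -/
def C5 : Subgroup A5 := Subgroup.centralizer {d5}

theorem mem_C5 {a : A5} : a ∈ C5 ↔ a * d5 = d5 * a := Subgroup.mem_centralizer_singleton_iff

instance C5_comm : IsMulCommutative C5 :=
  ⟨⟨fun a b => Subtype.ext (comm_d5_comm _ _ (mem_C5.1 a.2) (mem_C5.1 b.2))⟩⟩

theorem card_C5 : Nat.card C5 = 4 := by
  rw [← card_comm_d5]
  exact Nat.card_congr (Equiv.subtypeEquivRight fun a => mem_C5)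

/-- The group of order three. -/
def E9 : Subgroup A5 := Subgroup.centralizer {e5}

theorem mem_E9 {a : A5} : a ∈ E9 ↔ a * e5 = e5 * a := Subgroup.mem_centralizer_singleton_iff

theorem E9_cases {a : A5} (h : a ∈ E9) : a = 1 ∨ a = e5 ∨ a = e5⁻¹ :=
  comm_e5_cases a (mem_E9.1 h)

theorem E9_eq : E9 = Subgroup.zpowers e5 := by
  refine le_antisymm (fun a ha => ?_) (Subgroup.zpowers_le.2 (mem_E9.2 rfl))
  rcases E9_cases ha with rfl | rfl | rfl
  · exact one_mem _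
  · exact Subgroup.mem_zpowers _
  · exact inv_mem (Subgroup.mem_zpowers _)

theorem orderOf_e5 : orderOf e5 = 3 := by
  have : Fact (Nat.Prime 3) := ⟨Nat.prime_three⟩
  exact orderOf_eq_prime (by rw [pow_three', e5_pow_three]) e5_ne_one

theorem E9_cube {a : A5} (h : a ∈ E9) : a ^ 3 = 1 := by
  have he : e5 ^ 3 = 1 := by rw [← orderOf_e5]; exact pow_orderOf_eq_one _
  rcases E9_cases h with rfl | rfl | rfl
  · exact one_pow 3
  · exact he
  · rw [inv_pow, he, inv_one]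

theorem E9_normal {u a : A5} (hu : u ∈ E9) (ha : a ∈ C5) : u * a * u⁻¹ ∈ C5 := by
  rw [mem_C5] at ha ⊢
  rcases E9_cases hu with rfl | rfl | rfl
  · simpa using ha
  · exact (e5_normal a ha).1
  · rw [inv_inv]; exact (e5_normal a ha).2

/-- Sylow subgroups of a subgroup. -/
theorem exists_sylow_in {G : Type u} [Group G] [Finite G] {p n : ℕ} [Fact p.Prime]
    {S Q : Subgroup G} (hQS : Q ≤ S) (hQ : Nat.card Q = p ^ n)
    (hp : ¬ p ^ (n + 1) ∣ Nat.card G) : ∃ P : Sylow p S, (P : Subgroup S) = Q.subgroupOf S := by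
  have hc : Nat.card (Q.subgroupOf S) = p ^ n := by
    rw [Nat.card_congr (Subgroup.subgroupOfEquivOfLe hQS).toEquiv, hQ]
  have hi : ¬ p ∣ (Q.subgroupOf S).index := by
    intro h
    apply hp
    refine Dvd.dvd.trans ?_ (Subgroup.card_subgroup_dvd_card S)
    rw [← (Q.subgroupOf S).card_mul_index, hc, pow_succ]
    exact mul_dvd_mul_left _ h
  exact ⟨(IsPGroup.of_card hc).toSylow hi, rfl⟩

/-- Burnside's normal complement inside a subgroup. -/
theorem exists_complement {G : Type u} [Group G] [Finite G] {p n : ℕ} [Fact p.Prime]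
    {S Q : Subgroup G} (hQS : Q ≤ S) (hQ : Nat.card Q = p ^ n)
    (hp : ¬ p ^ (n + 1) ∣ Nat.card G)
    (hN : ∀ k ∈ S, k ∈ Subgroup.normalizer (Q : Set G) → ∀ x ∈ Q, k * x = x * k) :
    ∃ W : Subgroup G, W ≤ S ∧ S ≤ Subgroup.normalizer (W : Set G) ∧ ¬ p ∣ Nat.card W ∧
      S ≤ W ⊔ Q := by
  obtain ⟨P, hP⟩ := exists_sylow_in hQS hQ hp
  have hC : Subgroup.normalizer (P : Set S) ≤ Subgroup.centralizer (P : Set S) := by
    intro k hk
    change k ∈ Subgroup.normalizer ((P : Subgroup S) : Set S) at hk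
    rw [hP, ← Subgroup.subgroupOf_normalizer_eq hQS] at hk
    refine Subgroup.mem_centralizer_iff.2 fun x hx => Subtype.ext ?_
    have hx' : x ∈ Q.subgroupOf S := hP ▸ hx
    exact (hN k k.2 (Subgroup.mem_subgroupOf.1 hk) x (Subgroup.mem_subgroupOf.1 hx')).symm
  set K := (MonoidHom.transferSylow P hC).ker with hK
  refine ⟨K.map S.subtype, Subgroup.map_subtype_le K, ?_, ?_, ?_⟩
  · refine le_trans (le_of_eq ?_) (Subgroup.le_normalizer_map S.subtype)
    rw [Subgroup.normalizer_eq_top, ← MonoidHom.range_eq_map, Subgroup.range_subtype]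
  · rw [Subgroup.card_map_of_injective S.subtype_injective]
    exact MonoidHom.not_dvd_card_ker_transferSylow P hC
  · intro g hg
    have h1 := (MonoidHom.ker_transferSylow_isComplement' P hC).sup_eq_top
    have h2 : (⟨g, hg⟩ : S) ∈ K ⊔ (P : Subgroup S) := by rw [hK, h1]; exact Subgroup.mem_top _
    have h3 := Subgroup.mem_map_of_mem S.subtype h2
    rw [Subgroup.map_sup] at h3
    refine (sup_le_sup le_rfl ?_ : _ ≤ K.map S.subtype ⊔ Q) h3
    rw [hP, Subgroup.subgroupOf_map_subtype]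
    exact inf_le_left

/-- The hypotheses of the endgame. -/
structure Endgame (G : Type u) [Group G] where
  Φ : A5 × A5 →* G
  inj : Function.Injective Φ
  hodd : Odd Φ.range.index
  h3 : ∀ x, x ^ 3 = 1 → x ≠ 1 → Subgroup.centralizer ({Φ x} : Set G) ≤ Φ.range

namespace Endgame

variable {G : Type u} [Group G] (S : Endgame G)

theorem range_comp : (S.Φ.comp (MulEquiv.prodComm (M := A5) (N := A5)).toMonoidHom).range =
    S.Φ.range := by
  refine le_antisymm (fun g ⟨p, hp⟩ => ⟨p.swap, hp⟩) fun g ⟨p, hp⟩ => ⟨p.swap, ?_⟩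
  rw [← hp]; rfl

/-- The two factors exchanged. -/
def swap : Endgame G where
  Φ := S.Φ.comp (MulEquiv.prodComm (M := A5) (N := A5)).toMonoidHom
  inj := S.inj.comp (MulEquiv.injective _)
  hodd := by rw [S.range_comp]; exact S.hodd
  h3 x hx hx1 := by
    rw [S.range_comp]
    refine S.h3 x.swap ?_ ?_
    · exact Prod.ext (congrArg Prod.snd hx) (congrArg Prod.fst hx)
    · exact fun h => hx1 (Prod.swap_injective h)

theorem swap_Φ (a b : A5) : S.swap.Φ (a, b) = S.Φ (b, a) := rfl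

theorem swap_range : S.swap.Φ.range = S.Φ.range := S.range_comp

theorem mem_range_of_commute {x : A5 × A5} (hx : x ^ 3 = 1) (hx1 : x ≠ 1) {g : G}
    (h : Commute g (S.Φ x)) : ∃ p, S.Φ p = g ∧ Commute p x := by
  obtain ⟨p, rfl⟩ := S.h3 x hx hx1 (Subgroup.mem_centralizer_singleton_iff.2 h.eq)
  exact ⟨p, rfl, S.inj (by rw [map_mul, map_mul]; exact h.eq)⟩

theorem conj_Φ (p q : A5 × A5) : S.Φ p * S.Φ q * (S.Φ p)⁻¹ = S.Φ (p * q * p⁻¹) := by
  rw [map_mul, map_mul, map_inv]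

/-- The Sylow 2-subgroup. -/
def A : Subgroup G := (C5.prod C5).map S.Φ

theorem mem_A {g : G} : g ∈ S.A ↔ ∃ a b, a ∈ C5 ∧ b ∈ C5 ∧ g = S.Φ (a, b) := by
  constructor
  · rintro ⟨⟨a, b⟩, hab, rfl⟩
    exact ⟨a, b, hab.1, hab.2, rfl⟩
  · rintro ⟨a, b, ha, hb, rfl⟩
    exact Subgroup.mem_map_of_mem _ ⟨ha, hb⟩

theorem Φ_mem_A {a b : A5} : S.Φ (a, b) ∈ S.A ↔ a ∈ C5 ∧ b ∈ C5 :=
  ⟨fun h => by
    obtain ⟨a', b', ha, hb, he⟩ := S.mem_A.1 h
    obtain ⟨rfl, rfl⟩ := Prod.ext_iff.1 (S.inj he)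
    exact ⟨ha, hb⟩,
  fun h => S.mem_A.2 ⟨a, b, h.1, h.2, rfl⟩⟩

theorem A_le_range : S.A ≤ S.Φ.range := Subgroup.map_le_range _ _

theorem card_A : Nat.card S.A = 16 := by
  rw [A, Subgroup.card_map_of_injective S.inj, Nat.card_congr (Subgroup.prodEquiv _ _).toEquiv,
    Nat.card_prod, card_C5]

instance A_comm : IsMulCommutative S.A := by
  refine ⟨⟨fun x y => Subtype.ext ?_⟩⟩
  obtain ⟨a, b, ha, hb, hx⟩ := S.mem_A.1 x.2
  obtain ⟨a', b', ha', hb', hy⟩ := S.mem_A.1 y.2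
  show (x : G) * y = y * x
  rw [hx, hy, ← map_mul, ← map_mul, Prod.mk_mul_mk, Prod.mk_mul_mk,
    comm_d5_comm a a' (mem_C5.1 ha) (mem_C5.1 ha'), comm_d5_comm b b' (mem_C5.1 hb) (mem_C5.1 hb')]

theorem A_mul_comm {x y : G} (hx : x ∈ S.A) (hy : y ∈ S.A) : x * y = y * x :=
  congrArg Subtype.val (mul_comm (⟨x, hx⟩ : S.A) ⟨y, hy⟩)

/-- The Sylow 3-subgroup. -/
def P9 : Subgroup G := (E9.prod E9).map S.Φ

theorem mem_P9 {g : G} : g ∈ S.P9 ↔ ∃ a b, a ∈ E9 ∧ b ∈ E9 ∧ g = S.Φ (a, b) := by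
  constructor
  · rintro ⟨⟨a, b⟩, hab, rfl⟩
    exact ⟨a, b, hab.1, hab.2, rfl⟩
  · rintro ⟨a, b, ha, hb, rfl⟩
    exact Subgroup.mem_map_of_mem _ ⟨ha, hb⟩

theorem P9_le_range : S.P9 ≤ S.Φ.range := Subgroup.map_le_range _ _

theorem card_P9 : Nat.card S.P9 = 9 := by
  rw [P9, Subgroup.card_map_of_injective S.inj, Nat.card_congr (Subgroup.prodEquiv _ _).toEquiv,
    Nat.card_prod, E9_eq, Nat.card_zpowers, orderOf_e5]

instance P9_comm : IsMulCommutative S.P9 := by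
  refine ⟨⟨fun x y => Subtype.ext ?_⟩⟩
  obtain ⟨a, b, ha, hb, hx⟩ := S.mem_P9.1 x.2
  obtain ⟨a', b', ha', hb', hy⟩ := S.mem_P9.1 y.2
  have hcomm : ∀ u v : A5, u ∈ E9 → v ∈ E9 → u * v = v * u := fun u v hu hv => by
    rw [E9_eq] at hu hv
    obtain ⟨i, rfl⟩ := hu
    obtain ⟨j, rfl⟩ := hv
    exact ((Commute.refl e5).zpow_zpow i j).eq
  show (x : G) * y = y * x
  rw [hx, hy, ← map_mul, ← map_mul, Prod.mk_mul_mk, Prod.mk_mul_mk, hcomm a a' ha ha',
    hcomm b b' hb hb']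

theorem P9_cube {g : G} (h : g ∈ S.P9) : g ^ 3 = 1 := by
  obtain ⟨a, b, ha, hb, rfl⟩ := S.mem_P9.1 h
  rw [← map_pow, Prod.pow_mk, E9_cube ha, E9_cube hb, Prod.mk_one_one, map_one]

theorem P9_normalizer : S.P9 ≤ Subgroup.normalizer (S.A : Set G) := by
  have key : ∀ g ∈ S.P9, ∀ x ∈ S.A, g * x * g⁻¹ ∈ S.A := by
    intro g hg x hx
    obtain ⟨u, v, hu, hv, rfl⟩ := S.mem_P9.1 hg
    obtain ⟨a, b, ha, hb, rfl⟩ := S.mem_A.1 hx
    rw [S.conj_Φ]
    exact S.Φ_mem_A.2 ⟨E9_normal hu ha, E9_normal hv hb⟩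
  intro g hg
  refine Subgroup.mem_normalizer_iff.2 fun x => ⟨key g hg x, fun h => ?_⟩
  have := key g⁻¹ (inv_mem hg) _ h
  rwa [inv_inv, show g⁻¹ * (g * x * g⁻¹) * g = x by group] at this

theorem A_inf_P9 {g : G} (h1 : g ∈ S.A) (h2 : g ∈ S.P9) : g = 1 := by
  obtain ⟨a, b, ha, hb, rfl⟩ := S.mem_A.1 h1
  obtain ⟨u, v, hu, hv, he⟩ := S.mem_P9.1 h2
  obtain ⟨rfl, rfl⟩ := Prod.ext_iff.1 (S.inj he)
  rw [comm_e5_d5 a (mem_E9.1 hu) (mem_C5.1 ha), comm_e5_d5 b (mem_E9.1 hv) (mem_C5.1 hb)]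
  exact map_one _

section Fin

variable [Finite G]

theorem card_G : Nat.card G = 3600 * S.Φ.range.index := by
  rw [← S.Φ.range.card_mul_index, ← Nat.card_congr (MonoidHom.ofInjective S.inj).toEquiv,
    Nat.card_prod, card_A5]

include S in
theorem not_32 : ¬ 2 ^ (4 + 1) ∣ Nat.card G := by
  obtain ⟨k, hk⟩ := S.hodd
  rw [S.card_G, hk]
  omega

include S in
theorem not_27 : ¬ 3 ^ (2 + 1) ∣ Nat.card G := by
  intro h
  have : Fact (Nat.Prime 3) := ⟨Nat.prime_three⟩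
  obtain ⟨K, hK, hle⟩ := Sylow.exists_subgroup_card_pow_succ h
    (H := S.P9) (by rw [S.card_P9]; norm_num)
  have hp : IsPGroup 3 K := IsPGroup.of_card hK
  have : Nontrivial K := Finite.one_lt_card_iff_nontrivial.1 (by rw [hK]; norm_num)
  have := hp.center_nontrivial
  obtain ⟨⟨⟨z, hzK⟩, hz⟩, hz1⟩ := exists_ne (1 : Subgroup.center K)
  have hzc : ∀ k ∈ K, Commute k z := fun k hk =>
    congrArg Subtype.val (Subgroup.mem_center_iff.1 hz ⟨k, hk⟩)
  have hin : ∀ u v : A5, u ∈ E9 → v ∈ E9 → Commute (S.Φ (u, v)) z := fun u v hu hv =>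
    hzc _ (hle (S.mem_P9.2 ⟨u, v, hu, hv, rfl⟩))
  have he : e5 ∈ E9 := mem_E9.2 rfl
  have hx : ((e5, 1) : A5 × A5) ^ 3 = 1 := by
    rw [Prod.pow_mk, E9_cube he, one_pow, Prod.mk_one_one]
  obtain ⟨⟨a, b⟩, hab, hc⟩ := S.mem_range_of_commute hx
    (fun h => e5_ne_one (congrArg Prod.fst h)) (hin e5 1 he (one_mem _)).symm
  have hb : b * e5 = e5 * b := by
    have h1 := (hin 1 e5 (one_mem _) he).eq
    rw [← hab, ← map_mul, ← map_mul] at h1
    exact (congrArg Prod.snd (S.inj h1)).symm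
  have ha : a * e5 = e5 * a := congrArg Prod.fst hc.eq
  have hp1 : (a, b) ^ 3 = 1 := by
    rw [Prod.pow_mk, E9_cube (mem_E9.2 ha), E9_cube (mem_E9.2 hb), Prod.mk_one_one]
  have hp2 : ((a, b) : A5 × A5) ≠ 1 := fun h1 => hz1 (Subtype.ext (Subtype.ext (by
    show z = 1
    rw [← hab, h1, map_one])))
  have hKM : K ≤ S.Φ.range := fun k hk => S.h3 _ hp1 hp2
    (Subgroup.mem_centralizer_singleton_iff.2 (by rw [hab]; exact (hzc k hk).eq))
  have h27 := Subgroup.card_dvd_of_le hKM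
  rw [hK, ← Nat.card_congr (MonoidHom.ofInjective S.inj).toEquiv, Nat.card_prod, card_A5] at h27
  norm_num at h27

/-- A 2-element normalising `A` lies in `A`. -/
theorem two_mem {u : G} (hu : u ∈ Subgroup.normalizer (S.A : Set G)) {n : ℕ}
    (h : orderOf u ∣ 2 ^ n) : u ∈ S.A := by
  have : Fact (Nat.Prime 2) := ⟨Nat.prime_two⟩
  obtain ⟨m, -, hm⟩ := (Nat.dvd_prime_pow Nat.prime_two).1 h
  have h1 : IsPGroup 2 (Subgroup.zpowers u) :=
    IsPGroup.of_card (n := m) (by rw [Nat.card_zpowers, hm])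
  have h2 : IsPGroup 2 S.A := IsPGroup.of_card (n := 4) (by rw [S.card_A]; norm_num)
  have h3 := h2.to_sup_of_normal_left' h1 (Subgroup.zpowers_le.2 hu)
  obtain ⟨j, hj⟩ := IsPGroup.iff_card.1 h3
  have hj4 : j ≤ 4 := by
    by_contra hlt
    exact S.not_32 ((pow_dvd_pow 2 (by omega : 4 + 1 ≤ j)).trans
      (hj ▸ Subgroup.card_subgroup_dvd_card _))
  have heq : S.A = S.A ⊔ Subgroup.zpowers u := by
    refine Subgroup.eq_of_le_of_card_ge le_sup_left ?_
    rw [hj, S.card_A]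
    exact (Nat.pow_le_pow_right (by norm_num) hj4).trans_eq (by norm_num)
  rw [heq]
  exact Subgroup.mem_sup_right (Subgroup.mem_zpowers u)

theorem fst_axis {k : G} (hA : k ∈ Subgroup.normalizer (S.A : Set G))
    (hP : k ∈ Subgroup.normalizer (S.P9 : Set G)) {z t : A5 × A5} (hz : S.Φ z ∈ S.P9)
    (ht : S.Φ t ∈ S.A) (hz1 : z ≠ 1) (ht1 : t ≠ 1) (hzt : Commute z t) :
    k * S.Φ z * k⁻¹ = S.Φ (e5, 1) ∨ k * S.Φ z * k⁻¹ = (S.Φ (e5, 1))⁻¹ ∨
      k * S.Φ z * k⁻¹ = S.Φ (1, e5) ∨ k * S.Φ z * k⁻¹ = (S.Φ (1, e5))⁻¹ := by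
  obtain ⟨u, v, hu, hv, h1⟩ := S.mem_P9.1 ((Subgroup.mem_normalizer_iff.1 hP _).1 hz)
  obtain ⟨a, b, ha, hb, h2⟩ := S.mem_A.1 ((Subgroup.mem_normalizer_iff.1 hA _).1 ht)
  have hc : Commute (k * S.Φ z * k⁻¹) (k * S.Φ t * k⁻¹) :=
    (hzt.map S.Φ).map (MulAut.conj k)
  rw [h1, h2] at hc
  have hc' : (u, v) * (a, b) = (a, b) * (u, v) :=
    S.inj (by rw [map_mul, map_mul]; exact hc.eq)
  obtain ⟨hua, hvb⟩ := Prod.ext_iff.1 hc'
  have key : ∀ u a : A5, u ∈ E9 → a ∈ C5 → u * a = a * u → u ≠ 1 → a = 1 := by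
    intro u a hu ha hc hu1
    refine comm_e5_d5 a ?_ (mem_C5.1 ha)
    rcases E9_cases hu with rfl | rfl | rfl
    · exact absurd rfl hu1
    · exact hc.symm
    · simpa using (Commute.inv_left (hc : Commute e5⁻¹ a)).symm.eq
  have hne : u ≠ 1 ∨ v ≠ 1 := by
    by_contra hcon
    simp only [not_or, not_not] at hcon
    rw [hcon.1, hcon.2, Prod.mk_one_one, map_one, conj_eq_one_iff] at h1
    exact hz1 (S.inj (h1.trans (map_one S.Φ).symm))
  have hne' : a ≠ 1 ∨ b ≠ 1 := by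
    by_contra hcon
    simp only [not_or, not_not] at hcon
    rw [hcon.1, hcon.2, Prod.mk_one_one, map_one, conj_eq_one_iff] at h2
    exact ht1 (S.inj (h2.trans (map_one S.Φ).symm))
  rw [h1, ← map_inv, ← map_inv]
  by_cases hu1 : u = 1
  · subst hu1
    rcases E9_cases hv with rfl | rfl | rfl
    · simp at hne
    · exact Or.inr (Or.inr (Or.inl rfl))
    · exact Or.inr (Or.inr (Or.inr (by simp)))
  · have ha1 : a = 1 := key u a hu ha hua hu1
    have hv1 : v = 1 := by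
      by_contra hv1
      exact hne'.elim (fun h => h ha1) (fun h => h (key v b hv hb hvb hv1))
    subst hv1
    rcases E9_cases hu with rfl | rfl | rfl
    · exact absurd rfl hu1
    · exact Or.inl rfl
    · exact Or.inr (Or.inl (by simp))

theorem norm_P9 {k : G} (hA : k ∈ Subgroup.normalizer (S.A : Set G))
    (hP : k ∈ Subgroup.normalizer (S.P9 : Set G)) : k ∈ S.P9 := by
  have he : e5 ∈ E9 := mem_E9.2 rfl
  have hd : d5 ∈ C5 := mem_C5.2 rfl
  set x := S.Φ (e5, 1) with hxdef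
  set y := S.Φ (1, e5) with hydef
  have hxP : x ∈ S.P9 := S.mem_P9.2 ⟨_, _, he, one_mem _, rfl⟩
  have hyP : y ∈ S.P9 := S.mem_P9.2 ⟨_, _, one_mem _, he, rfl⟩
  have hx := S.fst_axis hA hP (z := (e5, 1)) (t := (1, d5)) hxP
    (S.Φ_mem_A.2 ⟨one_mem _, hd⟩) (fun h => e5_ne_one (congrArg Prod.fst h))
    (fun h => d5_ne_one (congrArg Prod.snd h)) (Prod.ext (by simp) (by simp))
  have hy := S.fst_axis hA hP (z := (1, e5)) (t := (d5, 1)) hyP
    (S.Φ_mem_A.2 ⟨hd, one_mem _⟩) (fun h => e5_ne_one (congrArg Prod.snd h))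
    (fun h => d5_ne_one (congrArg Prod.fst h)) (Prod.ext (by simp) (by simp))
  rw [← hxdef, ← hydef] at hx hy
  have hxy : x ≠ y ∧ x ≠ y⁻¹ := by
    constructor
    · exact fun h => e5_ne_one (congrArg Prod.fst (S.inj h))
    · intro h
      rw [hydef, ← map_inv] at h
      exact e5_ne_one (by simpa using congrArg Prod.fst (S.inj h))
  set σ := MulAut.conj k with hσ
  change (σ x = _ ∨ σ x = _ ∨ σ x = _ ∨ σ x = _) at hx
  change (σ y = _ ∨ σ y = _ ∨ σ y = _ ∨ σ y = _) at hy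
  have h4 : σ (σ (σ (σ x))) = x ∧ σ (σ (σ (σ y))) = y := by
    have hn1 : σ x ≠ σ y := fun h => hxy.1 (σ.injective h)
    have hn2 : σ x ≠ (σ y)⁻¹ := fun h => hxy.2 (σ.injective (h.trans (map_inv σ y).symm))
    rcases hx with hx | hx | hx | hx <;> rcases hy with hy | hy | hy | hy <;>
      simp [hx, hy] at hn1 hn2 ⊢
  have hk4 : ∀ w : G, σ (σ (σ (σ w))) = w → Commute (k ^ 4) w := by
    intro w hw
    rw [hσ] at hw
    simp only [MulAut.conj_apply] at hw
    have h1 : k ^ 4 * w * (k ^ 4)⁻¹ = w := by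
      refine Eq.trans ?_ hw
      simp [pow_succ, mul_assoc]
    exact mul_inv_eq_iff_eq_mul.1 h1
  obtain ⟨⟨a, b⟩, hab, hc⟩ := S.mem_range_of_commute (x := (e5, 1))
    (by rw [Prod.pow_mk, E9_cube he, one_pow, Prod.mk_one_one])
    (fun h => e5_ne_one (congrArg Prod.fst h)) (hk4 x h4.1)
  have ha : a ∈ E9 := mem_E9.2 (congrArg Prod.fst hc.eq)
  have hb : b ∈ E9 := by
    refine mem_E9.2 ?_
    have h1 := (hk4 y h4.2).eq
    rw [← hab, hydef, ← map_mul, ← map_mul] at h1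
    exact congrArg Prod.snd (S.inj h1)
  have hkP : k ^ 4 ∈ S.P9 := S.mem_P9.2 ⟨a, b, ha, hb, hab.symm⟩
  have h34 : orderOf (k ^ 3) ∣ 2 ^ 2 := orderOf_dvd_of_pow_eq_one (by
    rw [← pow_mul, show 3 * 2 ^ 2 = 4 * 3 by norm_num, pow_mul, S.P9_cube hkP])
  have hu : k ^ 3 ∈ S.A := S.two_mem (pow_mem hA 3) h34
  have hcom : ∀ w ∈ S.P9, Commute (k ^ 3) w := by
    intro w hw
    have h1 : k ^ 3 * w * (k ^ 3)⁻¹ * w⁻¹ ∈ S.P9 :=
      mul_mem ((Subgroup.mem_normalizer_iff.1 (pow_mem hP 3) _).1 hw) (inv_mem hw)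
    have h2 : k ^ 3 * w * (k ^ 3)⁻¹ * w⁻¹ ∈ S.A := by
      rw [show k ^ 3 * w * (k ^ 3)⁻¹ * w⁻¹ = k ^ 3 * (w * (k ^ 3)⁻¹ * w⁻¹) by group]
      exact mul_mem hu ((Subgroup.mem_normalizer_iff.1 (S.P9_normalizer hw) _).1 (inv_mem hu))
    have h3 := S.A_inf_P9 h2 h1
    show k ^ 3 * w = w * k ^ 3
    calc k ^ 3 * w = k ^ 3 * w * (k ^ 3)⁻¹ * w⁻¹ * (w * k ^ 3) := by group
      _ = w * k ^ 3 := by rw [h3, one_mul]
  have hk3 : k ^ 3 = 1 := by
    obtain ⟨a', b', ha', hb', hab'⟩ := S.mem_A.1 hu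
    have h1 := (hcom x hxP).eq
    have h2 := (hcom y hyP).eq
    rw [hab', hxdef, ← map_mul, ← map_mul] at h1
    rw [hab', hydef, ← map_mul, ← map_mul] at h2
    rw [hab', comm_e5_d5 a' (congrArg Prod.fst (S.inj h1)) (mem_C5.1 ha'),
      comm_e5_d5 b' (congrArg Prod.snd (S.inj h2)) (mem_C5.1 hb')]
    exact map_one _
  rwa [pow_succ, hk3, one_mul] at hkP

/-- The normaliser of the Sylow 2-subgroup. -/
theorem normalizer_le : Subgroup.normalizer (S.A : Set G) ≤ S.Φ.range := by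
  have : Fact (Nat.Prime 3) := ⟨Nat.prime_three⟩
  obtain ⟨W, hWN, hNW, hW3, hsup⟩ := exists_complement (p := 3) (n := 2) S.P9_normalizer
    (by rw [S.card_P9]; norm_num) S.not_27 (fun k hkA hkP x hx =>
      congrArg Subtype.val (mul_comm (⟨k, S.norm_P9 hkA hkP⟩ : S.P9) ⟨x, hx⟩))
  have hnc : ¬ IsCyclic S.P9 := by
    intro hc
    obtain ⟨g, hg⟩ := isCyclic_iff_exists_orderOf_eq_natCard.1 hc
    have : orderOf g ∣ 3 := orderOf_dvd_of_pow_eq_one (Subtype.ext (S.P9_cube g.2))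
    rw [hg, S.card_P9] at this
    norm_num at this
  have hcop : (Nat.card S.P9).Coprime (Nat.card W) := by
    rw [S.card_P9]
    exact Nat.Coprime.pow_left 2 ((Nat.prime_three.coprime_iff_not_dvd).2 hW3)
  have hWA : W ≤ S.A := by
    refine H20.le_of_centralizers_le hnc (S.P9_normalizer.trans hNW) hcop fun z hz hz1 g hg => ?_
    obtain ⟨hgW, hgc⟩ := Subgroup.mem_inf.1 hg
    obtain ⟨u, v, hu, hv, rfl⟩ := S.mem_P9.1 hz
    obtain ⟨⟨a, b⟩, rfl, -⟩ := S.mem_range_of_commute (x := (u, v))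
      (by rw [Prod.pow_mk, E9_cube hu, E9_cube hv, Prod.mk_one_one])
      (fun h => hz1 (by rw [h, map_one])) (Subgroup.mem_centralizer_singleton_iff.1 hgc)
    have hgN := Subgroup.mem_normalizer_iff.1 (hWN hgW)
    have hd : d5 ∈ C5 := mem_C5.2 rfl
    have h1 := (hgN _).1 (S.Φ_mem_A.2 ⟨hd, hd⟩)
    rw [S.conj_Φ] at h1
    obtain ⟨h1a, h1b⟩ := S.Φ_mem_A.1 h1
    have hpow : (a, b) ^ Nat.card W = 1 := by
      apply S.inj
      rw [map_pow, map_one]
      exact congrArg Subtype.val (pow_card_eq_one' (x := (⟨_, hgW⟩ : W)))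
    rw [Prod.pow_mk, Prod.mk_eq_one] at hpow
    have key : ∀ a : A5, a * d5 * a⁻¹ ∈ C5 → a ^ Nat.card W = 1 → a ∈ C5 := by
      intro a ha hpw
      rcases norm_V a (mem_C5.1 ha) with h | h
      · exact mem_C5.2 h
      · have h3 : orderOf a ∣ 3 := orderOf_dvd_of_pow_eq_one (by rw [pow_three', h])
        have : orderOf a = 1 := Nat.eq_one_of_dvd_coprimes
          ((Nat.prime_three.coprime_iff_not_dvd).2 hW3) h3 (orderOf_dvd_of_pow_eq_one hpw)
        rw [orderOf_eq_one_iff.1 this]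
        exact one_mem _
    exact S.Φ_mem_A.2 ⟨key a h1a hpow.1, key b h1b hpow.2⟩
  exact hsup.trans (sup_le (hWA.trans S.A_le_range) S.P9_le_range)

/-- Fusion in the Sylow 2-subgroup. -/
theorem fuse {R : Subgroup G} (hR : S.A ≤ R) {x g : G} (hg : g ∈ R) (hx : x ∈ S.A)
    (hy : g⁻¹ * x * g ∈ S.A) : ∃ a b, S.Φ (a, b) ∈ R ∧ g⁻¹ * x * g =
      (S.Φ (a, b))⁻¹ * x * S.Φ (a, b) := by
  have : Fact (Nat.Prime 2) := ⟨Nat.prime_two⟩
  obtain ⟨P, hP⟩ := exists_sylow_in hR (n := 4) (p := 2) (by rw [S.card_A]; norm_num) S.not_32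
  have hmem : ∀ w : R, w ∈ (P : Subgroup R) ↔ (w : G) ∈ S.A := fun w => by
    rw [hP, Subgroup.mem_subgroupOf]
  have : IsMulCommutative (P : Subgroup R) := ⟨⟨fun u v => Subtype.ext (Subtype.ext
    (S.A_mul_comm ((hmem u).1 u.2) ((hmem v).1 v.2)))⟩⟩
  obtain ⟨n, hn, hn'⟩ := P.conj_eq_normalizer_conj_of_mem ⟨x, hR hx⟩ ⟨g, hg⟩ ((hmem _).2 hx)
    ((hmem _).2 hy)
  change n ∈ Subgroup.normalizer ((P : Subgroup R) : Set R) at hn
  rw [hP, ← Subgroup.subgroupOf_normalizer_eq hR] at hn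
  obtain ⟨⟨a, b⟩, hab⟩ := S.normalizer_le (Subgroup.mem_subgroupOf.1 hn)
  refine ⟨a, b, hab ▸ n.2, ?_⟩
  rw [hab]
  exact congrArg Subtype.val hn'

omit [Finite G] in
theorem hom_A5_trivial {C : Type u} [Group C] [Finite C] (hC : Nat.card C < 60) (f : A5 →* C)
    (a : A5) : f a = 1 := by
  rcases Subgroup.Normal.eq_bot_or_eq_top (inferInstance : f.ker.Normal) with h | h
  · have := Nat.card_le_card_of_injective f ((MonoidHom.ker_eq_bot_iff f).1 h)
    rw [card_A5] at this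
    omega
  · exact MonoidHom.mem_ker.1 (h ▸ Subgroup.mem_top a)

/-- The projection of `A` to its first factor. -/
noncomputable def proj : S.A →* C5 :=
  (((MonoidHom.fst A5 A5).comp (C5.prod C5).subtype).comp
    ((C5.prod C5).equivMapOfInjective S.Φ S.inj).symm.toMonoidHom).codRestrict C5 fun x => by
      exact (((C5.prod C5).equivMapOfInjective S.Φ S.inj).symm x).2.1

theorem proj_apply {a b : A5} (h : S.Φ (a, b) ∈ S.A) : (S.proj ⟨_, h⟩ : A5) = a := by
  have : ((C5.prod C5).equivMapOfInjective S.Φ S.inj).symm ⟨_, h⟩ =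
      ⟨(a, b), S.Φ_mem_A.1 h⟩ := by
    rw [MulEquiv.symm_apply_eq]
    exact Subtype.ext rfl
  show (((C5.prod C5).equivMapOfInjective S.Φ S.inj).symm ⟨_, h⟩ : A5 × A5).1 = a
  rw [this]

/-- The centraliser of an involution in the first factor. -/
theorem cent_fst : Subgroup.centralizer ({S.Φ (d5, 1)} : Set G) ≤ S.Φ.range := by
  classical
  have : Fact (Nat.Prime 2) := ⟨Nat.prime_two⟩
  set R := Subgroup.centralizer ({S.Φ (d5, 1)} : Set G) with hR
  have hR1 : ∀ a b, a * d5 = d5 * a → S.Φ (a, b) ∈ R := fun a b h => by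
    rw [hR, Subgroup.mem_centralizer_singleton_iff, ← map_mul, ← map_mul]
    simp [h]
  have hAR : S.A ≤ R := fun g hg => by
    obtain ⟨a, b, ha, -, rfl⟩ := S.mem_A.1 hg
    exact hR1 a b (mem_C5.1 ha)
  set H := S.A.subgroupOf R with hH
  set φ : H →* C5 := S.proj.comp (Subgroup.subgroupOfEquivOfLe hAR).toMonoidHom with hφ
  set T : R →* C5 := MonoidHom.transfer φ with hT
  have hidx : Odd H.index := by
    rw [← Nat.not_even_iff_odd, even_iff_two_dvd]
    intro h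
    apply S.not_32
    refine Dvd.dvd.trans ?_ (Subgroup.card_subgroup_dvd_card R)
    rw [← H.card_mul_index, hH, Nat.card_congr (Subgroup.subgroupOfEquivOfLe hAR).toEquiv,
      S.card_A]
    exact mul_dvd_mul (by norm_num) h
  have hTV : ∀ v (hv : v ∈ C5), T ⟨S.Φ (v, 1), hR1 v 1 (mem_C5.1 hv)⟩ = ⟨v, hv⟩ := by
    intro v hv
    set w : R := ⟨S.Φ (v, 1), hR1 v 1 (mem_C5.1 hv)⟩ with hw
    have key : ∀ (k : ℕ) (g₀ : R), g₀⁻¹ * w ^ k * g₀ ∈ H → g₀⁻¹ * w ^ k * g₀ = w ^ k := by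
      intro k g₀ hg
      have hwk : ((w ^ k : R) : G) = S.Φ (v ^ k, 1) := by
        rw [SubmonoidClass.coe_pow, hw, ← map_pow, Prod.pow_mk, one_pow]
      have hg' := Subgroup.mem_subgroupOf.1 hg
      simp only [Subgroup.coe_mul, Subgroup.coe_inv, hwk] at hg'
      obtain ⟨a, b, hab, heq⟩ := S.fuse hAR g₀.2 (S.Φ_mem_A.2 ⟨pow_mem hv k, one_mem _⟩) hg'
      rw [hR, Subgroup.mem_centralizer_singleton_iff, ← map_mul, ← map_mul] at hab
      have ha : a * d5 = d5 * a := congrArg Prod.fst (S.inj hab)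
      refine Subtype.ext ?_
      simp only [Subgroup.coe_mul, Subgroup.coe_inv, hwk, heq]
      rw [← map_inv, ← map_mul, ← map_mul]
      congr 1
      have hva : v ^ k * a = a * v ^ k :=
        comm_d5_comm _ _ (mem_C5.1 (pow_mem hv k)) ha
      simp [mul_assoc, hva]
    have hwA : (w : G) ∈ S.A := S.Φ_mem_A.2 ⟨hv, one_mem _⟩
    have hwp : w ^ H.index = w := by
      obtain ⟨j, hj⟩ := hidx
      have h2 : w ^ 2 = 1 := Subtype.ext (by
        rw [SubmonoidClass.coe_pow, hw, ← map_pow, Prod.pow_mk, one_pow, pow_two,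
          comm_d5_sq v (mem_C5.1 hv), Prod.mk_one_one, map_one]
        rfl)
      rw [hj, pow_succ, pow_mul, h2, one_pow, one_mul]
    rw [hT, MonoidHom.transfer_eq_pow φ w key]
    have : ∀ (h : w ^ H.index ∈ H), φ ⟨w ^ H.index, h⟩ = φ ⟨w, hwA⟩ := fun h =>
      congrArg φ (Subtype.ext hwp)
    rw [this]
    exact Subtype.ext (S.proj_apply hwA)
  have hTE : ∀ b, T ⟨S.Φ (1, b), hR1 1 b (by simp)⟩ = 1 := fun b =>
    hom_A5_trivial (C := C5) (by rw [card_C5]; norm_num)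
      (T.comp ((S.Φ.comp (MonoidHom.inr A5 A5)).codRestrict R fun b => hR1 1 b (by simp))) b
  have hTab : ∀ a b (h : a ∈ C5) (hm : S.Φ (a, b) ∈ R), T ⟨_, hm⟩ = ⟨a, h⟩ := by
    intro a b h hm
    have : (⟨S.Φ (a, b), hm⟩ : R) =
        ⟨_, hR1 a 1 (mem_C5.1 h)⟩ * ⟨_, hR1 1 b (by simp)⟩ := Subtype.ext (by
      rw [Subgroup.coe_mul, ← map_mul, Prod.mk_mul_mk, mul_one, one_mul])
    rw [this, map_mul, hTV a h, hTE b, mul_one]
  have hsurj : Function.Surjective T := fun v => ⟨_, hTV v.1 v.2⟩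
  have hcard : Nat.card R = 4 * Nat.card T.ker := by
    rw [← T.ker.index_mul_card, Subgroup.index_ker, MonoidHom.range_eq_top.2 hsurj,
      Subgroup.card_top, card_C5]
  have hRG : Nat.card R ∣ Nat.card G := Subgroup.card_subgroup_dvd_card R
  set E : A5 →* T.ker :=
    ((S.Φ.comp (MonoidHom.inr A5 A5)).codRestrict R fun b => hR1 1 b (by simp)).codRestrict T.ker
      hTE with hE
  have hEinj : Function.Injective E := fun a b h =>
    congrArg Prod.snd (S.inj (congrArg (fun z : T.ker => ((z : R) : G)) h))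
  have he3 : ((1, e5) : A5 × A5) ^ 3 = 1 := by
    rw [Prod.pow_mk, E9_cube (mem_E9.2 rfl), one_pow, Prod.mk_one_one]
  set X := Subgroup.zpowers (E e5) with hX
  have hXc : Nat.card X = 3 := by
    rw [hX, Nat.card_zpowers, orderOf_injective E hEinj, orderOf_e5]
  have hXC : Subgroup.centralizer (X : Set T.ker) = X := by
    refine le_antisymm (fun g hg => ?_) (fun g hg => ?_)
    · have hc : Commute ((g : R) : G) (S.Φ (1, e5)) := by
        have := Subgroup.mem_centralizer_iff.1 hg (E e5) (Subgroup.mem_zpowers _)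
        exact (congrArg (fun z : T.ker => ((z : R) : G)) this).symm
      obtain ⟨⟨a, b⟩, hab, hcx⟩ := S.mem_range_of_commute he3
        (fun h => e5_ne_one (congrArg Prod.snd h)) hc
      have hgR : S.Φ (a, b) ∈ R := hab ▸ (g : R).2
      have ha : a ∈ C5 := by
        have h1 := Subgroup.mem_centralizer_singleton_iff.1 hgR
        rw [← map_mul, ← map_mul] at h1
        exact mem_C5.2 (congrArg Prod.fst (S.inj h1))
      have ha1 : a = 1 := by
        have h1 : T ⟨S.Φ (a, b), hgR⟩ = 1 := by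
          rw [show (⟨S.Φ (a, b), hgR⟩ : R) = (g : R) from Subtype.ext hab]
          exact MonoidHom.mem_ker.1 g.2
        rw [hTab a b ha hgR] at h1
        exact congrArg Subtype.val h1
      obtain ⟨i, hi⟩ : b ∈ Subgroup.zpowers e5 :=
        E9_eq ▸ mem_E9.2 (congrArg Prod.snd hcx.eq)
      refine ⟨i, ?_⟩
      show (E e5) ^ i = g
      rw [← map_zpow]
      refine Subtype.ext (Subtype.ext ?_)
      show S.Φ (1, e5 ^ i) = _
      rw [← hab, ha1]
      exact congrArg (fun t => S.Φ ((1 : A5), t)) hi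
    · refine Subgroup.mem_centralizer_iff.2 fun y hy => ?_
      obtain ⟨i, rfl⟩ := hg
      obtain ⟨j, rfl⟩ := hy
      exact ((Commute.refl (E e5)).zpow_zpow j i).eq
  have h60 : Nat.card A5 ∣ Nat.card T.ker := Subgroup.card_dvd_of_injective E hEinj
  have hk60 : Nat.card T.ker = 60 := by
    rcases S3331.result X hXc hXC with ⟨N, hN, -, hcop, hq⟩ | ⟨N, hN, -, hN2, ⟨iso⟩⟩ | ⟨⟨iso⟩⟩
    · exfalso
      have hq6 : Nat.card (T.ker ⧸ N) < 60 := by
        rcases hq with h | ⟨⟨iso⟩⟩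
        · omega
        · rw [Nat.card_congr iso.toEquiv, Nat.card_perm, Nat.card_fin]
          norm_num [Nat.factorial]
      have hEN : ∀ a, E a ∈ N := fun a => (QuotientGroup.eq_one_iff _).1
        (hom_A5_trivial hq6 ((QuotientGroup.mk' N).comp E) a)
      have h1 : Nat.card A5 ∣ Nat.card N := Subgroup.card_dvd_of_injective
        (E.codRestrict N hEN) (fun a b h => hEinj (congrArg Subtype.val h))
      have h3 : 3 ∣ Nat.card N := Dvd.dvd.trans (by rw [card_A5]; norm_num) h1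
      have h31 := Nat.eq_one_of_dvd_coprimes hcop h3 (dvd_refl 3)
      norm_num at h31
    · obtain ⟨k, hk⟩ := IsPGroup.iff_card.1
        (show IsPGroup 2 N from fun n => ⟨1, Subtype.ext (hN2 n n.2)⟩)
      have h := Subgroup.card_eq_card_quotient_mul_card_subgroup N
      rw [Nat.card_congr iso.toEquiv, card_A5, hk] at h
      rcases Nat.eq_zero_or_pos k with rfl | hk0
      · simpa using h
      · exfalso
        apply S.not_32
        refine Dvd.dvd.trans ?_ hRG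
        rw [hcard, h]
        obtain ⟨j, rfl⟩ : ∃ j, k = j + 1 := ⟨k - 1, by omega⟩
        exact ⟨15 * 2 ^ j, by ring⟩
    · exfalso
      rw [Nat.card_congr iso.toEquiv, H6.card_psl2 (ZMod.card 7), card_A5] at h60
      norm_num at h60
  set K := (C5.prod (⊤ : Subgroup A5)).map S.Φ with hKdef
  have hKR : K ≤ R := by
    rintro g ⟨⟨a, b⟩, hab, rfl⟩
    exact hR1 a b (mem_C5.1 hab.1)
  have hKc : Nat.card K = 240 := by
    rw [hKdef, Subgroup.card_map_of_injective S.inj,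
      Nat.card_congr (Subgroup.prodEquiv _ _).toEquiv, Nat.card_prod, card_C5, Subgroup.card_top,
      card_A5]
  have : K = R := Subgroup.eq_of_le_of_card_ge hKR (by rw [hcard, hk60, hKc])
  rw [← this]
  exact Subgroup.map_le_range _ _

/-- The centraliser of an involution in the second factor. -/
theorem cent_snd : Subgroup.centralizer ({S.Φ (1, d5)} : Set G) ≤ S.Φ.range := by
  rw [← S.swap_Φ, ← S.swap_range]
  exact S.swap.cent_fst

omit [Finite G] in
theorem cent_conj {m x : G} (hm : m ∈ S.Φ.range)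
    (h : Subgroup.centralizer ({x} : Set G) ≤ S.Φ.range) :
    Subgroup.centralizer ({m * x * m⁻¹} : Set G) ≤ S.Φ.range := by
  intro g hg
  rw [Subgroup.mem_centralizer_singleton_iff] at hg
  have h1 : m⁻¹ * g * m ∈ Subgroup.centralizer ({x} : Set G) := by
    rw [Subgroup.mem_centralizer_singleton_iff]
    calc m⁻¹ * g * m * x = m⁻¹ * (g * (m * x * m⁻¹)) * m := by group
      _ = m⁻¹ * ((m * x * m⁻¹) * g) * m := by rw [hg]
      _ = x * (m⁻¹ * g * m) := by group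
  have := mul_mem (mul_mem hm (h h1)) (inv_mem hm)
  rwa [show m * (m⁻¹ * g * m) * m⁻¹ = g by group] at this

/-- The centraliser of a diagonal involution. -/
theorem cent_diag : Subgroup.centralizer ({S.Φ (d5, d5)} : Set G) ≤ S.Φ.range := by
  have : Fact (Nat.Prime 2) := ⟨Nat.prime_two⟩
  set R := Subgroup.centralizer ({S.Φ (d5, d5)} : Set G) with hR
  have hRM : ∀ a b, S.Φ (a, b) ∈ R → S.Φ (a, b) ∈ S.A := fun a b h => by
    rw [hR, Subgroup.mem_centralizer_singleton_iff, ← map_mul, ← map_mul] at h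
    obtain ⟨h1, h2⟩ := Prod.ext_iff.1 (S.inj h)
    exact S.Φ_mem_A.2 ⟨mem_C5.2 h1, mem_C5.2 h2⟩
  have hAR : S.A ≤ R := fun g hg => by
    obtain ⟨a, b, ha, hb, rfl⟩ := S.mem_A.1 hg
    rw [hR, Subgroup.mem_centralizer_singleton_iff, ← map_mul, ← map_mul]
    simp [mem_C5.1 ha, mem_C5.1 hb]
  obtain ⟨W, hWR, hRW, hW2, hsup⟩ := exists_complement (p := 2) (n := 4) hAR
    (by rw [S.card_A]; norm_num) S.not_32 (fun k hkR hkA x hx => by
      obtain ⟨⟨a, b⟩, rfl⟩ := S.normalizer_le hkA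
      exact congrArg Subtype.val (mul_comm (⟨_, hRM a b hkR⟩ : S.A) ⟨x, hx⟩))
  set V := (C5.prod (⊥ : Subgroup A5)).map S.Φ with hV
  have hVA : V ≤ S.A := by
    rintro g ⟨⟨a, b⟩, hab, rfl⟩
    obtain rfl : b = 1 := Subgroup.mem_bot.1 hab.2
    exact S.Φ_mem_A.2 ⟨hab.1, one_mem _⟩
  have : IsMulCommutative V := ⟨⟨fun u v => Subtype.ext
    (S.A_mul_comm (hVA u.2) (hVA v.2))⟩⟩
  have hVc : Nat.card V = 4 := by
    rw [hV, Subgroup.card_map_of_injective S.inj,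
      Nat.card_congr (Subgroup.prodEquiv _ _).toEquiv, Nat.card_prod, card_C5, Subgroup.card_bot]
  have hnc : ¬ IsCyclic V := by
    intro hc
    obtain ⟨g, hg⟩ := isCyclic_iff_exists_orderOf_eq_natCard.1 hc
    have : orderOf g ∣ 2 := orderOf_dvd_of_pow_eq_one (Subtype.ext (by
      obtain ⟨a, b, ha, hb, he⟩ := S.mem_A.1 (hVA g.2)
      rw [SubmonoidClass.coe_pow, he, ← map_pow, Prod.pow_mk, pow_two, pow_two,
        comm_d5_sq a (mem_C5.1 ha), comm_d5_sq b (mem_C5.1 hb), Prod.mk_one_one, map_one]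
      rfl))
    rw [hg, hVc] at this
    norm_num at this
  have hcop : (Nat.card V).Coprime (Nat.card W) := by
    rw [hVc]
    exact Nat.Coprime.pow_left 2 ((Nat.prime_two.coprime_iff_not_dvd).2 hW2)
  have hWA : W ≤ S.A := by
    refine H20.le_of_centralizers_le hnc ((hVA.trans hAR).trans hRW) hcop
      fun z hz hz1 g hg => ?_
    obtain ⟨hgW, hgc⟩ := Subgroup.mem_inf.1 hg
    obtain ⟨⟨a, b⟩, hab, rfl⟩ := hz
    obtain rfl : b = 1 := Subgroup.mem_bot.1 hab.2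
    have hconj : ∀ u : A5, S.Φ (u * d5 * u⁻¹, 1) =
        S.Φ (u, 1) * S.Φ (d5, 1) * (S.Φ (u, 1))⁻¹ := fun u => by
      rw [S.conj_Φ]; simp
    have hC : Subgroup.centralizer ({S.Φ (a, 1)} : Set G) ≤ S.Φ.range := by
      rcases comm_d5_cases a (mem_C5.1 hab.1) with rfl | rfl | rfl | rfl
      · exact absurd (map_one S.Φ) hz1
      · exact S.cent_fst
      · rw [hconj e5]
        exact S.cent_conj ⟨_, rfl⟩ S.cent_fst
      · have := hconj e5⁻¹
        rw [inv_inv] at this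
        rw [this]
        exact S.cent_conj ⟨_, rfl⟩ S.cent_fst
    obtain ⟨⟨u, v⟩, rfl⟩ := hC hgc
    exact hRM u v (hWR hgW)
  exact hsup.trans (sup_le (hWA.trans S.A_le_range) S.A_le_range)

/-- The centraliser of every involution of the subgroup. -/
theorem invol_conj {p : A5 × A5} (hp : p * p = 1) (hp1 : p ≠ 1) :
    ∃ m t, (t = (d5, (1 : A5)) ∨ t = ((1 : A5), d5) ∨ t = (d5, d5)) ∧ m * t * m⁻¹ = p := by
  obtain ⟨a, b⟩ := p
  obtain ⟨ha, hb⟩ := Prod.ext_iff.1 hp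
  by_cases ha1 : a = 1
  · subst ha1
    have hb1 : b ≠ 1 := fun h => hp1 (by rw [h]; rfl)
    obtain ⟨e, he⟩ := involution_conj b hb hb1
    exact ⟨(1, e), (1, d5), Or.inr (Or.inl rfl), Prod.ext (by simp) he⟩
  · obtain ⟨e, he⟩ := involution_conj a ha ha1
    by_cases hb1 : b = 1
    · subst hb1
      exact ⟨(e, 1), (d5, 1), Or.inl rfl, Prod.ext he (by simp)⟩
    · obtain ⟨e', he'⟩ := involution_conj b hb hb1
      exact ⟨(e, e'), (d5, d5), Or.inr (Or.inr rfl), Prod.ext he he'⟩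

theorem cent_invol {g : G} (hg : g ∈ S.Φ.range) (h2 : g * g = 1) (h1 : g ≠ 1) :
    Subgroup.centralizer ({g} : Set G) ≤ S.Φ.range := by
  obtain ⟨p, rfl⟩ := hg
  obtain ⟨m, t, ht, rfl⟩ := invol_conj (S.inj (by rw [map_mul, map_one]; exact h2) : p * p = 1)
    (fun h => h1 (by rw [h, map_one]))
  rw [← S.conj_Φ]
  refine S.cent_conj ⟨_, rfl⟩ ?_
  rcases ht with rfl | rfl | rfl
  · exact S.cent_fst
  · exact S.cent_snd
  · exact S.cent_diag

theorem not_conj_r {t : A5 × A5} (ht : S.Φ t ∈ S.A) (g : G)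
    (h : g⁻¹ * S.Φ (d5, 1) * g = S.Φ t) : t.1 ≠ 1 ∧ t.2 = 1 := by
  have hd : S.Φ (d5, 1) ∈ S.A := S.Φ_mem_A.2 ⟨mem_C5.2 rfl, one_mem _⟩
  obtain ⟨a, b, -, he⟩ := S.fuse (R := ⊤) le_top (Subgroup.mem_top g) hd (h ▸ ht)
  rw [h, ← map_inv, ← map_mul, ← map_mul] at he
  rw [S.inj he]
  constructor
  · intro h1
    apply d5_ne_one
    calc d5 = a * (a⁻¹ * d5 * a) * a⁻¹ := by group
      _ = 1 := by rw [show a⁻¹ * d5 * a = 1 from h1]; group
  · simp

theorem range_eq_top : S.Φ.range = ⊤ := by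
  refine eq_top_iff.2 fun g _ => ?_
  set r := S.Φ (d5, 1) with hr
  set s := S.Φ (1, d5) with hs
  set u := g * r * g⁻¹ with hu
  have hd : d5 ∈ C5 := mem_C5.2 rfl
  have hsA : s ∈ S.A := S.Φ_mem_A.2 ⟨one_mem _, hd⟩
  have hs2 : s * s = 1 := by
    rw [hs, ← map_mul, Prod.mk_mul_mk, d5_sq, one_mul, Prod.mk_one_one, map_one]
  have hr2 : r * r = 1 := by
    rw [hr, ← map_mul, Prod.mk_mul_mk, d5_sq, one_mul, Prod.mk_one_one, map_one]
  have hu2 : u * u = 1 := by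
    rw [hu, show g * r * g⁻¹ * (g * r * g⁻¹) = g * (r * r) * g⁻¹ by group, hr2]; group
  have hns : ∀ h : G, h⁻¹ * u * h ≠ s := by
    intro h he
    refine (S.not_conj_r hsA (g⁻¹ * h) ?_).1 rfl
    rw [← hs, ← hr, ← he, hu]; group
  set z := u * s with hz
  have hsz : s * z * s⁻¹ = z⁻¹ := by
    rw [hz, inv_eq_of_mul_eq_one_right hs2, mul_inv_rev, inv_eq_of_mul_eq_one_right hs2,
      inv_eq_of_mul_eq_one_right hu2]
    simp [mul_assoc, hs2]
  have huz : u * z * u⁻¹ = z⁻¹ := by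
    rw [hz, inv_eq_of_mul_eq_one_right hu2, mul_inv_rev, inv_eq_of_mul_eq_one_right hs2,
      inv_eq_of_mul_eq_one_right hu2, ← mul_assoc u u s, hu2, one_mul]
  have hconj : ∀ t : G, t * z * t⁻¹ = z⁻¹ → ∀ n : ℕ, t * z ^ n = (z ^ n)⁻¹ * t := by
    intro t ht n
    have h1 : (MulAut.conj t) (z ^ n) = (z⁻¹) ^ n := by rw [map_pow, MulAut.conj_apply, ht]
    rw [MulAut.conj_apply, inv_pow] at h1
    rw [← h1, inv_mul_cancel_right]
  rcases Nat.even_or_odd (orderOf z) with ⟨k, hk⟩ | ⟨k, hk⟩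
  · have hpos : 0 < orderOf z := orderOf_pos z
    have hw1 : z ^ k ≠ 1 := fun h => by
      have := Nat.le_of_dvd (by omega) (orderOf_dvd_of_pow_eq_one h)
      omega
    have hw2 : z ^ k * z ^ k = 1 := by rw [← pow_add, ← hk, pow_orderOf_eq_one]
    have hwinv : (z ^ k)⁻¹ = z ^ k := inv_eq_of_mul_eq_one_right hw2
    have hws : z ^ k ∈ S.Φ.range := S.cent_snd (Subgroup.mem_centralizer_singleton_iff.2 (by
      rw [← hs, hconj s hsz k, hwinv]))
    have huM : u ∈ S.Φ.range := S.cent_invol hws hw2 hw1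
      (Subgroup.mem_centralizer_singleton_iff.2 (by rw [hconj u huz k, hwinv]))
    obtain ⟨p, hp⟩ := huM
    have hu1 : u ≠ 1 := fun h => d5_ne_one (congrArg Prod.fst (S.inj (show r = S.Φ 1 by
      rw [map_one]; rw [hu, conj_eq_one_iff] at h; exact h)))
    obtain ⟨m, t, ht, rfl⟩ := invol_conj (p := p) (S.inj (by rw [map_mul, map_one, hp, hu2]))
      (fun h => hu1 (by rw [← hp, h, map_one]))
    rw [← S.conj_Φ] at hp
    have htA : S.Φ t ∈ S.A := by
      rcases ht with rfl | rfl | rfl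
      · exact S.Φ_mem_A.2 ⟨hd, one_mem _⟩
      · exact hsA
      · exact S.Φ_mem_A.2 ⟨hd, hd⟩
    obtain ⟨h1, h2⟩ := S.not_conj_r htA (g⁻¹ * S.Φ m) (by
      calc (g⁻¹ * S.Φ m)⁻¹ * r * (g⁻¹ * S.Φ m) = (S.Φ m)⁻¹ * (g * r * g⁻¹) * S.Φ m := by group
        _ = (S.Φ m)⁻¹ * (S.Φ m * S.Φ t * (S.Φ m)⁻¹) * S.Φ m := by rw [← hu, hp]
        _ = S.Φ t := by group)
    rcases ht with rfl | rfl | rfl
    · have hc : (S.Φ m)⁻¹ * g ∈ Subgroup.centralizer ({r} : Set G) := by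
        rw [Subgroup.mem_centralizer_singleton_iff]
        calc (S.Φ m)⁻¹ * g * r = (S.Φ m)⁻¹ * (g * r * g⁻¹) * g := by group
          _ = (S.Φ m)⁻¹ * (S.Φ m * r * (S.Φ m)⁻¹) * g := by rw [← hu, hp]
          _ = r * ((S.Φ m)⁻¹ * g) := by group
      have := mul_mem (show S.Φ m ∈ S.Φ.range from ⟨m, rfl⟩) (S.cent_fst hc)
      rwa [mul_inv_cancel_left] at this
    · exact absurd rfl h1
    · exact absurd h2 d5_ne_one
  · exfalso
    refine hns (z ^ (k + 1)) ?_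
    rw [mul_assoc, hconj u huz (k + 1), ← mul_assoc, ← mul_inv_rev, ← pow_add,
      show k + 1 + (k + 1) = orderOf z + 1 by omega, pow_succ, pow_orderOf_eq_one, one_mul, hz,
      mul_inv_rev, inv_eq_of_mul_eq_one_right hs2, inv_eq_of_mul_eq_one_right hu2, mul_assoc, hu2,
      mul_one]

end Fin

end Endgame

open Equiv in
/-- The endgame: `A5 × A5` of odd index containing the centralisers of its elements of order
three is the whole group. -/
theorem endgame {G : Type*} [Group G] [Finite G]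
    (Φ : alternatingGroup (Fin 5) × alternatingGroup (Fin 5) →* G) (hinj : Function.Injective Φ)
    (hodd : Odd Φ.range.index)
    (h3 : ∀ x, x ^ 3 = 1 → x ≠ 1 → Subgroup.centralizer ({Φ x} : Set G) ≤ Φ.range) :
    Φ.range = ⊤ :=
  (⟨Φ, hinj, hodd, h3⟩ : Endgame G).range_eq_top

end Cfsg.Agent.H87.SymEight
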