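import Mathlib
import Cfsg.Prelude.Def_Solvable
import Cfsg.Agent.H19.Cores
import Cfsg.Agent.H28.BaerSuzuki

/-!
Odd-homogeneous groups have a normal Sylow 2-subgroup.
-/

set_option autoImplicit false
open scoped Pointwise

namespace Cfsg.Agent.H87

variable {G : Type*} [Group G] [Finite G]

/-- If `O₂(G) = 1` and `G` has even order, an involution inverts a non-identity element of odd
prime order. -/
theorem exists_inverted_of_two_dvd (hcore : Cfsg.pCore 2 G = ⊥) (h2 : 2 ∣ Nat.card G) :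
    ∃ t h : G, ∃ r : ℕ, r.Prime ∧ r ≠ 2 ∧ orderOf h = r ∧ orderOf t = 2 ∧ t * h * t⁻¹ = h⁻¹ := by
  obtain ⟨t, ht⟩ := exists_prime_orderOf_dvd_card' (G := G) 2 h2
  have ht2 : t * t = 1 := by rw [← pow_two, ← ht, pow_orderOf_eq_one]
  have htinv : t⁻¹ = t := inv_eq_of_mul_eq_one_right ht2
  by_contra hcon
  push Not at hcon
  obtain ⟨N, hN, hNp, htN⟩ := Cfsg.Agent.H28.baer_suzuki_element (p := 2) t (fun g => by
    set u := g * t * g⁻¹
    have hu2 : u * u = 1 := by
      show g * t * g⁻¹ * (g * t * g⁻¹) = 1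
      calc g * t * g⁻¹ * (g * t * g⁻¹) = g * (t * t) * g⁻¹ := by group
        _ = 1 := by rw [ht2]; group
    set c := t * u
    have hc : t * c * t⁻¹ = c⁻¹ := by
      rw [htinv]
      show t * (t * u) * t = (t * u)⁻¹
      rw [← mul_assoc, ht2, one_mul, mul_inv_rev, inv_eq_of_mul_eq_one_right hu2, htinv]
    -- the order of `c` is a power of two
    have hc2 : ∃ k, orderOf c = 2 ^ k := by
      refine ⟨_, Nat.eq_prime_pow_of_unique_prime_dvd (orderOf_pos c).ne' (fun {r} hr hd => ?_)⟩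
      by_contra hr2
      obtain ⟨e, he⟩ := hd
      have hcr : orderOf (c ^ e) = r := by
        have he0 : e ≠ 0 := by
          rintro rfl
          exact (orderOf_pos c).ne' (by simpa using he)
        rw [orderOf_pow' c he0, he, Nat.gcd_eq_right (dvd_mul_left e r)]
        exact Nat.mul_div_cancel _ (Nat.pos_of_ne_zero he0)
      refine hcon t (c ^ e) r hr hr2 hcr ht ?_
      rw [← conj_pow, hc, inv_pow]
    obtain ⟨k, hk⟩ := hc2
    have hcz : IsPGroup 2 (Subgroup.zpowers c) := IsPGroup.of_card (by rw [Nat.card_zpowers, hk])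
    have htz : IsPGroup 2 (Subgroup.zpowers t) :=
      IsPGroup.of_card (n := 1) (by rw [Nat.card_zpowers, ht, pow_one])
    have hnorm : Subgroup.zpowers t ≤ Subgroup.normalizer (Subgroup.zpowers c : Set G) := by
      rw [Subgroup.zpowers_le, Subgroup.mem_normalizer_iff]
      intro y
      constructor
      · rintro ⟨i, rfl⟩
        exact ⟨-i, show c ^ (-i) = t * c ^ i * t⁻¹ by rw [← conj_zpow, hc, inv_zpow, zpow_neg]⟩
      · rintro ⟨i, hi⟩
        refine ⟨-i, ?_⟩
        show c ^ (-i) = y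
        have : y = t * (t * y * t⁻¹) * t⁻¹ := by
          calc y = (t * t) * y * (t⁻¹ * t⁻¹) := by rw [ht2, htinv, ht2]; simp
            _ = _ := by group
        rw [this, ← (show c ^ i = t * y * t⁻¹ from hi), ← conj_zpow, hc, inv_zpow, zpow_neg]
    refine (IsPGroup.to_sup_of_normal_right' htz hcz hnorm).to_le ?_
    rw [Subgroup.closure_le]
    rintro z (hz | hz)
    · rw [hz]
      exact (le_sup_left : Subgroup.zpowers t ≤ Subgroup.zpowers t ⊔ Subgroup.zpowers c) (Subgroup.mem_zpowers _)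
    · have hutc : u = t * c := by show u = t * (t * u); rw [← mul_assoc, ht2, one_mul]
      rw [show z = u from hz, hutc]
      exact mul_mem ((le_sup_left : Subgroup.zpowers t ≤ _) (Subgroup.mem_zpowers t))
        ((le_sup_right : Subgroup.zpowers c ≤ Subgroup.zpowers t ⊔ Subgroup.zpowers c) (Subgroup.mem_zpowers c)))
  have h1 := Cfsg.Agent.H19.le_pCore hN hNp htN
  rw [hcore, Subgroup.mem_bot] at h1
  rw [h1, orderOf_one] at ht
  omega

/-- Odd-homogeneous groups: `N(H)/C(H)` of odd order for odd-order `H` forces a normal Sylow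
2-subgroup. -/
theorem sylow_two_normal_of_odd_homogeneous
    (hhom : ∀ H : Subgroup G, H ≠ ⊥ → ¬ 2 ∣ Nat.card H →
        ¬ 2 ∣ (Subgroup.centralizer (H : Set G)).relIndex (Subgroup.normalizer (H : Set G)))
    (P : Sylow 2 G) : (P : Subgroup G).Normal := by
  haveI := Fact.mk Nat.prime_two
  set N := Cfsg.pCore 2 G with hN
  haveI : N.Normal := Cfsg.Agent.H19.pCore_normal 2 G
  have hNp : IsPGroup 2 N := Cfsg.Agent.H19.pCore_isPGroup 2
  have hcore : Cfsg.pCore 2 (G ⧸ N) = ⊥ := by
    set M := (Cfsg.pCore 2 (G ⧸ N)).comap (QuotientGroup.mk' N)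
    have hMn : M.Normal := (Cfsg.Agent.H19.pCore_normal 2 (G ⧸ N)).comap _
    have hMp : IsPGroup 2 M := by
      refine (Cfsg.Agent.H19.pCore_isPGroup 2).comap_of_ker_isPGroup _ ?_
      rw [QuotientGroup.ker_mk']; exact hNp
    rw [Subgroup.eq_bot_iff_forall]
    intro x hx
    obtain ⟨y, rfl⟩ := QuotientGroup.mk'_surjective N x
    exact (QuotientGroup.eq_one_iff y).2 (Cfsg.Agent.H19.le_pCore hMn hMp hx)
  have hodd : ¬ 2 ∣ Nat.card (G ⧸ N) := by
    intro h2
    obtain ⟨tb, hb, r, hr, hr2, hhb, htb, hinv⟩ := exists_inverted_of_two_dvd hcore h2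
    haveI := Fact.mk hr
    -- a lift of `hb` of order `r`
    obtain ⟨a, rfl⟩ := QuotientGroup.mk'_surjective N hb
    obtain ⟨k, hk⟩ := IsPGroup.iff_card.1 hNp
    set h₀ := a ^ 2 ^ k
    have hco : (2 ^ k).Coprime r := Nat.Coprime.pow_left _ ((Nat.coprime_primes Nat.prime_two hr).2 hr2.symm)
    have h0r : h₀ ^ r = 1 := by
      have hmem : a ^ r ∈ N := by
        rw [← QuotientGroup.eq_one_iff, QuotientGroup.mk_pow, ← hhb]
        exact pow_orderOf_eq_one _
      show (a ^ 2 ^ k) ^ r = 1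
      rw [← pow_mul, mul_comm, pow_mul, ← hk]
      have := pow_card_eq_one' (x := (⟨a ^ r, hmem⟩ : N))
      exact congrArg Subtype.val this
    have h0ne : h₀ ∉ N := by
      intro h
      rw [← QuotientGroup.eq_one_iff, QuotientGroup.mk_pow, ← orderOf_dvd_iff_pow_eq_one] at h
      have : (orderOf (QuotientGroup.mk' N a)) ∣ 2 ^ k := h
      rw [hhb] at this
      exact hr.ne_one (Nat.eq_one_of_dvd_coprimes hco this dvd_rfl)
    set H := Subgroup.zpowers h₀
    have hHcard : Nat.card H = r := by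
      rw [Nat.card_zpowers]
      exact orderOf_eq_prime h0r (fun e => h0ne (e ▸ one_mem N))
    obtain ⟨t, rfl⟩ := QuotientGroup.mk'_surjective N tb
    -- `H` is a Sylow subgroup of `L = N H`
    set L := N ⊔ H
    have hinv₀ : QuotientGroup.mk' N (t * h₀ * t⁻¹) = QuotientGroup.mk' N h₀⁻¹ := by
      show QuotientGroup.mk' N (t * a ^ 2 ^ k * t⁻¹) = QuotientGroup.mk' N (a ^ 2 ^ k)⁻¹
      rw [map_mul, map_mul, map_inv, map_inv, map_pow, ← conj_pow, hinv, inv_pow]
    have hth : t * h₀ * t⁻¹ ∈ L := by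
      have hd : h₀ * (t * h₀ * t⁻¹) ∈ N := by
        rw [← QuotientGroup.eq_one_iff]
        show QuotientGroup.mk' N (h₀ * (t * h₀ * t⁻¹)) = 1
        rw [map_mul, hinv₀, map_inv, mul_inv_cancel]
      have := mul_mem (inv_mem ((le_sup_right : H ≤ L) (Subgroup.mem_zpowers h₀))) ((le_sup_left : N ≤ L) hd)
      simpa [← mul_assoc] using this
    have hHL : H.subgroupOf L ≠ ⊥ := by
      intro e
      rw [Subgroup.subgroupOf_eq_bot] at e
      have := disjoint_self.1 (e.mono_right le_sup_right)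
      rw [Subgroup.zpowers_eq_bot] at this
      exact h0ne (this ▸ one_mem N)
    have hindex : ¬ r ∣ (H.subgroupOf L).index := by
      intro hd
      have h1 := Cfsg.Agent.H19.card_sup_dvd N H
      have hcard' : Nat.card L = r * (H.subgroupOf L).index := by
        rw [← (H.subgroupOf L).card_mul_index,
          Nat.card_congr (Subgroup.subgroupOfEquivOfLe (le_sup_right : H ≤ L)).toEquiv, hHcard]
      rw [hcard', hHcard, hk, mul_comm (2 ^ k)] at h1
      exact hr.ne_one (Nat.eq_one_of_dvd_coprimes hco.symm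
        dvd_rfl (hd.trans (Nat.dvd_of_mul_dvd_mul_left hr.pos h1)))
    let S : Sylow r L := (IsPGroup.of_card (n := 1) (by
      rw [pow_one, Nat.card_congr (Subgroup.subgroupOfEquivOfLe (le_sup_right : H ≤ L)).toEquiv,
        hHcard]) : IsPGroup r (H.subgroupOf L)).toSylow hindex
    have hS : (S : Subgroup L) = H.subgroupOf L := rfl
    set z : L := ⟨t * h₀ * t⁻¹, hth⟩
    have hz : IsPGroup r (Subgroup.zpowers z) := by
      refine IsPGroup.of_card (n := 1) ?_
      rw [Nat.card_zpowers, ← Subgroup.orderOf_coe]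
      show orderOf (t * h₀ * t⁻¹) = r ^ 1
      rw [← MulAut.conj_apply, MulEquiv.orderOf_eq, pow_one, ← Nat.card_zpowers]
      exact hHcard
    obtain ⟨S', hS'⟩ := hz.exists_le_sylow
    obtain ⟨l, hl⟩ := MulAction.exists_smul_eq L S S'
    have hzl : z ∈ MulAut.conj l • (S : Subgroup L) := by
      rw [← hl] at hS'; exact hS' (Subgroup.mem_zpowers z)
    rw [Subgroup.mem_pointwise_smul_iff_inv_smul_mem, hS] at hzl
    have hzl' : (l : G)⁻¹ * (t * h₀ * t⁻¹) * l ∈ H := by
      have := Subgroup.mem_subgroupOf.1 hzl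
      simpa [MulAut.smul_def, z] using this
    -- modulo `N` the element `l` centralises `h₀`
    have hcent : ∀ y ∈ L, Commute (QuotientGroup.mk' N y) (QuotientGroup.mk' N h₀) := by
      intro y hy
      have hy' : y ∈ ((N ⊔ H : Subgroup G) : Set G) := hy
      rw [Subgroup.normal_mul] at hy'
      obtain ⟨n, hn, w, ⟨i, rfl⟩, rfl⟩ := hy'
      rw [map_mul, (show QuotientGroup.mk' N n = 1 from (QuotientGroup.eq_one_iff n).2 hn), one_mul,
        map_zpow]
      exact Commute.zpow_left rfl i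
    set g := (l : G)⁻¹ * t
    have hg : g * h₀ * g⁻¹ = h₀⁻¹ := by
      have hmem : g * h₀ * g⁻¹ ∈ H := by
        show (l : G)⁻¹ * t * h₀ * ((l : G)⁻¹ * t)⁻¹ ∈ H
        convert hzl' using 1; group
      have hd : g * h₀ * g⁻¹ * h₀ ∈ N ⊓ H := by
        refine Subgroup.mem_inf.2 ⟨?_, mul_mem hmem (Subgroup.mem_zpowers h₀)⟩
        rw [← QuotientGroup.eq_one_iff]
        show QuotientGroup.mk' N ((l : G)⁻¹ * t * h₀ * ((l : G)⁻¹ * t)⁻¹ * h₀) = 1
        have e : (l : G)⁻¹ * t * h₀ * ((l : G)⁻¹ * t)⁻¹ = (l : G)⁻¹ * (t * h₀ * t⁻¹) * l := by group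
        rw [e, map_mul, map_mul, map_mul, hinv₀, map_inv, map_inv, ((hcent l l.2).inv_inv).eq]
        group
      have hbot : N ⊓ H = ⊥ := Subgroup.inf_eq_bot_of_coprime (by rw [hk, hHcard]; exact hco)
      rw [hbot, Subgroup.mem_bot] at hd
      exact eq_inv_of_mul_eq_one_left hd
    -- contradiction with homogeneity
    have hgN : g ∈ Subgroup.normalizer (H : Set G) := by
      have h2' : g * h₀⁻¹ * g⁻¹ = h₀ := by
        have := congrArg (·⁻¹) hg
        simpa [mul_assoc] using this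
      rw [Subgroup.mem_normalizer_iff]
      intro y
      constructor
      · rintro ⟨i, rfl⟩
        exact ⟨-i, show h₀ ^ (-i) = g * h₀ ^ i * g⁻¹ by rw [← conj_zpow, hg, inv_zpow, zpow_neg]⟩
      · rintro ⟨i, hi⟩
        refine ⟨-i, ?_⟩
        show h₀ ^ (-i) = y
        have : g * (h₀ ^ (-i)) * g⁻¹ = g * y * g⁻¹ := by
          rw [← (show h₀ ^ i = g * y * g⁻¹ from hi), ← conj_zpow, hg, inv_zpow, zpow_neg, inv_inv]
        exact mul_left_cancel (mul_right_cancel this)
    have hHne : H ≠ ⊥ := fun e => hr.ne_one (by rw [← hHcard, e, Subgroup.card_bot])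
    refine hhom H hHne (by rw [hHcard]; exact fun h => hr2 ((Nat.prime_dvd_prime_iff_eq Nat.prime_two hr).1 h).symm) ?_
    set C := Subgroup.centralizer (H : Set G)
    set NN := Subgroup.normalizer (H : Set G)
    have hgC : (⟨g, hgN⟩ : NN) ∉ C.subgroupOf NN := by
      intro hc
      have := Subgroup.mem_centralizer_iff.1 (Subgroup.mem_subgroupOf.1 hc) h₀ (Subgroup.mem_zpowers h₀)
      have h3 : h₀⁻¹ = h₀ := by rw [← hg, ← this]; group
      have h4 : h₀ ^ 2 = 1 := by rw [pow_two]; nth_rewrite 1 [← h3]; rw [inv_mul_cancel]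
      have h5 := orderOf_dvd_iff_pow_eq_one.2 h4
      rw [← Nat.card_zpowers, hHcard] at h5
      exact hr2 ((Nat.prime_dvd_prime_iff_eq hr Nat.prime_two).1 h5)
    haveI : (C.subgroupOf NN).Normal := by
      refine ⟨fun x hx y => Subgroup.mem_subgroupOf.2 (Subgroup.mem_centralizer_iff.2 fun w hw => ?_)⟩
      have hw' : (y : G)⁻¹ * w * y ∈ H := by
        have := (Subgroup.mem_normalizer_iff.1 (inv_mem y.2) w).1 hw
        simpa using this
      have := Subgroup.mem_centralizer_iff.1 (Subgroup.mem_subgroupOf.1 hx) _ hw'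
      show w * ((y : G) * x * (y : G)⁻¹) = (y : G) * x * (y : G)⁻¹ * w
      calc w * ((y : G) * x * (y : G)⁻¹) = y * (((y : G)⁻¹ * w * y) * x) * (y : G)⁻¹ := by group
        _ = _ := by rw [this]; group
    set q : NN ⧸ C.subgroupOf NN := QuotientGroup.mk' _ ⟨g, hgN⟩
    have hq2 : q ^ 2 = 1 := by
      rw [← map_pow, QuotientGroup.mk'_apply, QuotientGroup.eq_one_iff, Subgroup.mem_subgroupOf,
        Subgroup.mem_centralizer_iff]
      rintro _ ⟨i, rfl⟩
      have h2' : g * h₀⁻¹ * g⁻¹ = h₀ := by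
        have := congrArg (·⁻¹) hg
        simpa [mul_assoc] using this
      have hgg : Commute (g * g) h₀ := by
        show g * g * h₀ = h₀ * (g * g)
        calc g * g * h₀ = g * (g * h₀ * g⁻¹) * g⁻¹ * (g * g) := by group
          _ = _ := by rw [hg, h2']
      have := (hgg.zpow_right i).eq
      simpa [pow_two] using this.symm
    have hq1 : q ≠ 1 := fun e => hgC ((QuotientGroup.eq_one_iff _).1 e)
    have := orderOf_dvd_natCard q
    rwa [orderOf_eq_prime hq2 hq1] at this
  have hPN : (P : Subgroup G) ≤ N := by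
    intro x hx
    rw [← QuotientGroup.eq_one_iff, ← orderOf_eq_one_iff]
    obtain ⟨k, hk⟩ := IsPGroup.iff_orderOf.1 P.isPGroup' ⟨x, hx⟩
    refine Nat.eq_one_of_dvd_coprimes (a := 2 ^ k) (b := Nat.card (G ⧸ N))
      (Nat.Coprime.pow_left _ ((Nat.prime_two.coprime_iff_not_dvd).2 hodd)) ?_ (orderOf_dvd_natCard _)
    rw [← hk, Subgroup.orderOf_mk]
    exact orderOf_map_dvd (QuotientGroup.mk' N) x
  have : N = (P : Subgroup G) := P.is_maximal' hNp hPN
  exact this ▸ inferInstance

end Cfsg.Agent.H87
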