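import Mathlib
import Cfsg.Agent.H34.SymEight.Data

/-!
Facts on `(S3 × S5)⁺` and on permutations of eight points for the three-local recognition of
the alternating group of degree eight.
-/

set_option autoImplicit false
set_option maxRecDepth 20000

namespace Cfsg.Agent.H87.AltEight

open Equiv Cfsg.Agent.H34.SymEight

/-- The sign of a pair. -/
def sgnHom : Perm (Fin 3) × Perm (Fin 5) →* ℤˣ :=
  ((Equiv.Perm.sign).comp (MonoidHom.fst (Equiv.Perm (Fin 3)) (Equiv.Perm (Fin 5)))) *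
    ((Equiv.Perm.sign).comp (MonoidHom.snd (Equiv.Perm (Fin 3)) (Equiv.Perm (Fin 5))))

/-- The pairs of permutations whose signs agree. -/
abbrev K : Subgroup (Perm (Fin 3) × Perm (Fin 5)) := sgnHom.ker

theorem mem_K {p : Perm (Fin 3) × Perm (Fin 5)} :
    p ∈ K ↔ Perm.sign p.1 * Perm.sign p.2 = 1 := MonoidHom.mem_ker

/-- An element of `K`. -/
def kk (w : Perm (Fin 3)) (σ : Perm (Fin 5)) (h : Perm.sign w * Perm.sign σ = 1 := by decide) : K :=
  ⟨(w, σ), mem_K.2 h⟩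

/-- The double transposition on `0, 1, 3, 4`. -/
def a5 : Perm (Fin 5) := swap 0 1 * swap 3 4

/-- The element of order three moving `2, 3, 4`. -/
def p5 : Perm (Fin 5) := swap 2 4 * swap 4 3

/-- The point paired with `0`. -/
def pt (j : Bool) : Fin 5 := if j then 4 else 3

/-- An involution of one of the four groups normalised by `t5`. -/
def f5' (j : Bool) : Perm (Fin 5) := swap 0 (pt j) * swap 1 2

/-- The four groups normalised by `t5`. -/
def Vset (j : Bool) (σ : Perm (Fin 5)) : Prop :=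
  σ = 1 ∨ σ = f5' j ∨ σ = t5 * f5' j * t5⁻¹ ∨ σ = t5⁻¹ * f5' j * t5

instance (j : Bool) (σ : Perm (Fin 5)) : Decidable (Vset j σ) := by unfold Vset; infer_instance

theorem normal_three_aux : ∀ w : Perm (Fin 3), ∀ σ : Perm (Fin 5),
    Perm.sign w * Perm.sign σ = 1 → w ^ 3 = 1 → σ ^ 3 = 1 → ¬ (w = 1 ∧ σ = 1) →
    ((t5 * σ * t5⁻¹ = σ ∧ p5 * σ * p5⁻¹ = σ) ∨ (t5 * σ * t5⁻¹ = σ⁻¹ ∧ w = w⁻¹) ∨
      (p5 * σ * p5⁻¹ = σ⁻¹ ∧ w = w⁻¹)) →
    σ = 1 ∧ (w = u3 ∨ w = u3⁻¹) := by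
  decide +kernel

theorem comm_u3 : ∀ w : Perm (Fin 3), w * u3 = u3 * w → ∃ i < 3, w = u3 ^ i := by decide +kernel

theorem u3_pow_sign : ∀ i < 3, Perm.sign (u3 ^ i) = 1 := by decide +kernel

theorem three_conj5 : ∀ σ : Perm (Fin 5), σ ^ 3 = 1 → σ ≠ 1 →
    ∃ e : Perm (Fin 5), Perm.sign e = 1 ∧ e * t5 * e⁻¹ = σ := by
  decide +kernel

theorem inv_u3_cases : ∀ w : Perm (Fin 3), ∀ σ : Perm (Fin 5), Perm.sign w * Perm.sign σ = 1 →
    w * u3 * w⁻¹ = u3⁻¹ → σ * t5 = t5 * σ → w * w = 1 → σ * σ = 1 →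
    σ = c5 ∧ ∃ m < 3, w = u3 ^ m * w3 * (u3 ^ m)⁻¹ := by
  decide +kernel

theorem comm_pair_t5 : ∀ σ : Perm (Fin 5), Perm.sign σ = 1 → σ * t5 = t5 * σ →
    ∃ i < 3, σ = t5 ^ i := by
  decide +kernel

theorem comm_V3 : ∀ σ : Perm (Fin 5), σ * f5' false = f5' false * σ →
    σ * (t5 * f5' false * t5⁻¹) = t5 * f5' false * t5⁻¹ * σ → Vset false σ := by
  decide +kernel

theorem Vset_t5 : ∀ j, ∀ σ : Perm (Fin 5), Vset j σ → σ * t5 = t5 * σ → σ = 1 := by decide +kernel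

/-- The words whose orders detect elements of order three. -/
def words (σ : Perm (Fin 5)) : List (Perm (Fin 5)) :=
  [σ, σ * (t5 * σ * t5⁻¹), σ * σ * (t5 * σ * t5⁻¹),
    σ * (t5 * σ * t5⁻¹) * (σ * (t5⁻¹ * σ * t5))]

theorem invariant_three' : ∀ σ : Perm (Fin 5), Perm.sign σ = 1 →
    ((words σ).all fun x => decide (x ^ 3 = 1 → x = 1)) = true →
    Vset false σ ∨ Vset true σ := by
  decide +kernel

theorem Vset_prod : ∀ σ τ : Perm (Fin 5), Vset false σ → Vset true τ →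
    Vset false (σ * τ) ∨ Vset true (σ * τ) → σ = 1 ∨ τ = 1 := by
  intro σ τ h1 h2
  rcases h1 with rfl | rfl | rfl | rfl <;> rcases h2 with rfl | rfl | rfl | rfl <;> decide +kernel

theorem f5'_ne_one : ∀ j, f5' j ≠ 1 := by decide +kernel

end Cfsg.Agent.H87.AltEight
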