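import Mathlib
import Cfsg.Agent.H87.AltEightFacts

/-!
Normalised data for the three-local recognition of the alternating group of degree eight: an
embedded `(S3 × S5)⁺`, the normaliser of `⟨z⟩`, and an involution exchanging `z` with the three
cycle `z'` of the degree five part.
-/

set_option autoImplicit false
set_option maxRecDepth 20000
set_option synthInstance.maxSize 4000
set_option synthInstance.maxHeartbeats 200000

namespace Cfsg.Agent.H87.AltEight

open Equiv Cfsg.Agent.H34.SymEight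

universe u

/-- `z`. -/
def kz : K := kk u3 1
/-- `z'`. -/
def kz' : K := kk 1 t5
/-- An involution inverting `z'`, centralising `z`. -/
def ka : K := kk 1 a5
/-- An involution inverting `z`, centralising `z'`. -/
def kb : K := kk w3 c5
/-- An element of order five centralising `z`. -/
def kf : K := kk 1 (swap 0 1 * swap 1 2 * swap 2 3 * swap 3 4)

theorem kz_cube : kz ^ 3 = 1 := by decide +kernel
theorem kz'_cube : kz' ^ 3 = 1 := by decide +kernel
theorem kz_ne : kz ≠ 1 := by decide +kernel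
theorem ka_sq : ka * ka = 1 := by decide +kernel
theorem kb_sq : kb * kb = 1 := by decide +kernel
theorem ka_z : ka * kz = kz * ka := by decide +kernel
theorem ka_z' : ka * kz' * ka = kz'⁻¹ := by decide +kernel
theorem kb_z : kb * kz * kb = kz⁻¹ := by decide +kernel
theorem kb_z' : kb * kz' = kz' * kb := by decide +kernel
theorem kf_z : kf * kz = kz * kf := by decide +kernel
theorem kz_z' : kz * kz' = kz' * kz := by decide +kernel

theorem kf_order : orderOf kf = 5 := by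
  have : Fact (Nat.Prime 5) := ⟨by norm_num⟩
  exact orderOf_eq_prime (by decide +kernel) (by decide +kernel)

theorem kz_pows : ∀ i < 3, ∀ j < 3, kz ^ i * kz' ^ j = 1 → i = 0 ∧ j = 0 := by
  intro i hi j hj
  interval_cases i <;> interval_cases j <;> decide +kernel

theorem dihedral_four : ∀ x : DihedralGroup 4, x ^ 4 = 1 := by decide +kernel

theorem dihedral_not_two : ∃ x : DihedralGroup 4, x ^ 2 ≠ 1 := ⟨DihedralGroup.r 1, by decide +kernel⟩

/-- A step of a linear map on exponents. -/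
def step (i j k l : ℕ) (v : ℕ × ℕ) : ℕ × ℕ := ((i * v.1 + k * v.2) % 3, (j * v.1 + l * v.2) % 3)

/-- The fourth power fixes both coordinates. -/
def four (i j k l : ℕ) : Prop :=
  step i j k l (step i j k l (step i j k l (step i j k l (1, 0)))) = (1, 0) ∧
    step i j k l (step i j k l (step i j k l (step i j k l (0, 1)))) = (0, 1)

instance (i j k l : ℕ) : Decidable (four i j k l) := by unfold four; infer_instance

theorem mat_moves : ∀ i < 3, ∀ j < 3, ∀ k < 3, ∀ l < 3, four i j k l →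
    four (2 * i % 3) (2 * j % 3) k l → j ≠ 0 → i = 0 := by
  intro i hi j hj k hk l hl
  have key : ∀ i j k l : Fin 3, four i j k l → four (2 * i.val % 3) (2 * j.val % 3) k l →
      j.val ≠ 0 → i.val = 0 := by
    decide +kernel
  exact key ⟨i, hi⟩ ⟨j, hj⟩ ⟨k, hk⟩ ⟨l, hl⟩

theorem mat_swap : ∀ i < 3, ∀ j < 3, ∀ k < 3, ∀ l < 3,
    four (2 * i % 3) (2 * j % 3) k l → (i + k) % 3 = 1 → (j + l) % 3 = 1 →
    step i j k l (step i j k l (1, 0)) = (1, 0) →
    step i j k l (step i j k l (0, 1)) = (0, 1) →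
    ¬ (i = 1 ∧ j = 0 ∧ k = 0 ∧ l = 1) → i = 0 ∧ j = 1 ∧ k = 1 ∧ l = 0 := by
  intro i hi j hj k hk l hl
  have key : ∀ i j k l : Fin 3, four (2 * i.val % 3) (2 * j.val % 3) k l →
      (i.val + k.val) % 3 = 1 → (j.val + l.val) % 3 = 1 →
      step i j k l (step i j k l (1, 0)) = (1, 0) →
      step i j k l (step i j k l (0, 1)) = (0, 1) →
      ¬ (i.val = 1 ∧ j.val = 0 ∧ k.val = 0 ∧ l.val = 1) →
      i.val = 0 ∧ j.val = 1 ∧ k.val = 1 ∧ l.val = 0 := by
    decide +kernel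
  exact key ⟨i, hi⟩ ⟨j, hj⟩ ⟨k, hk⟩ ⟨l, hl⟩

theorem norm_sq : ∀ w : Perm (Fin 3), ∀ σ : Perm (Fin 5), Perm.sign w * Perm.sign σ = 1 →
    (∃ j < 3, σ * t5 * σ⁻¹ = t5 ^ j) → ∃ i < 3, ∃ j < 3, w * w = u3 ^ i ∧ σ * σ = t5 ^ j := by
  decide +kernel

/-- The normalised data. -/
structure Data (G : Type u) [Group G] where
  /-- the normaliser of `z` -/
  ψ : K →* G
  inj : Function.Injective ψ
  /-- exchanges `z` and `z'` -/
  q : G
  q_sq : q * q = 1
  q_z : q * ψ kz * q = ψ kz'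
  q_a : q * ψ ka * q = ψ kb
  norm : ∀ g : G, g * ψ kz * g⁻¹ = ψ kz ∨ g * ψ kz * g⁻¹ = (ψ kz)⁻¹ → g ∈ ψ.range
  not27 : ¬ 3 ^ (2 + 1) ∣ Nat.card G
  card_y : Nat.card (Subgroup.centralizer ({ψ kz * ψ kz'} : Set G)) = 18
  cent_D : ∀ g : G, Commute g (ψ kz) → Commute g (ψ kz') → g ^ 3 = 1

theorem exists_data {G : Type u} [Group G] [Finite G]
    (P : Sylow 3 G) (D : Subgroup G) (hDP : D = P) (y z : G) (hgen : Subgroup.closure {y, z} = D)
    (hcomm : IsMulCommutative D) (hcard : Nat.card D = 9) (hexp : ∀ a ∈ D, a ^ 3 = 1)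
    (hC : Subgroup.centralizer (D : Set G) = D)
    (eN : Subgroup.normalizer (D : Set G) ⧸ D.subgroupOf (Subgroup.normalizer (D : Set G)) ≃*
      DihedralGroup 4)
    (hyn : (D.subgroupOf (Subgroup.centralizer ({y} : Set G))).Normal)
    (hycard : Nat.card (Subgroup.centralizer ({y} : Set G)) = 18)
    (eL : Subgroup.normalizer (Subgroup.zpowers z : Set G) ≃* K) :
    Nonempty (Data G) := by
  have : Fact (Nat.Prime 3) := ⟨Nat.prime_three⟩
  have hyD : y ∈ D := hgen ▸ Subgroup.subset_closure (Or.inl rfl)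
  have hzD : z ∈ D := hgen ▸ Subgroup.subset_closure (Or.inr rfl)
  have hDc : ∀ a ∈ D, ∀ b ∈ D, Commute a b := fun a ha b hb =>
    congrArg Subtype.val (hcomm.is_comm.comm ⟨a, ha⟩ ⟨b, hb⟩)
  have hz3 : z ^ 3 = 1 := hexp z hzD
  have hsmall : ∀ u : G, u ^ 3 = 1 → ¬ D ≤ Subgroup.zpowers u := fun u hu hle => by
    have h1 := Nat.le_of_dvd Nat.card_pos (Subgroup.card_dvd_of_le hle)
    rw [hcard, Nat.card_zpowers] at h1
    have := Nat.le_of_dvd (by norm_num) (orderOf_dvd_of_pow_eq_one hu)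
    omega
  have hz1 : z ≠ 1 := fun h => hsmall y (hexp y hyD) (hgen ▸ (Subgroup.closure_le _).2 (by
    rintro x (rfl | rfl)
    · exact Subgroup.mem_zpowers _
    · exact h ▸ one_mem _))
  set N := Subgroup.normalizer (Subgroup.zpowers z : Set G) with hNdef
  set ψ₀ : K →* G := N.subtype.comp eL.symm.toMonoidHom with hψ₀
  have inj₀ : Function.Injective ψ₀ := N.subtype_injective.comp eL.symm.injective
  have range₀ : ∀ g, g ∈ ψ₀.range ↔ g ∈ N := fun g => by
    refine ⟨fun ⟨k, hk⟩ => hk ▸ (eL.symm k).2, fun h => ⟨eL ⟨g, h⟩, ?_⟩⟩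
    show ((eL.symm (eL ⟨g, h⟩)) : G) = g
    rw [MulEquiv.symm_apply_apply]
  have hzpow : ∀ x ∈ Subgroup.zpowers z, x = 1 ∨ x = z ∨ x = z⁻¹ := by
    intro x hx
    obtain ⟨n, rfl⟩ := (isOfFinOrder_of_finite z).mem_powers_iff_mem_zpowers.2 hx
    change z ^ n = 1 ∨ z ^ n = z ∨ z ^ n = z⁻¹
    rw [pow_eq_pow_mod n hz3]
    have : n % 3 = 0 ∨ n % 3 = 1 ∨ n % 3 = 2 := by omega
    rcases this with h | h | h <;> rw [h]
    · exact Or.inl (pow_zero z)
    · exact Or.inr (Or.inl (pow_one z))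
    · exact Or.inr (Or.inr (eq_inv_of_mul_eq_one_left (by rw [← pow_succ, hz3])))
  have hnorm : ∀ g, g * z * g⁻¹ = z ∨ g * z * g⁻¹ = z⁻¹ → g ∈ N := by
    intro g hg
    refine Subgroup.mem_normalizer_iff.2 fun h => ?_
    have h1 : (Subgroup.zpowers z).map (MulAut.conj g).toMonoidHom = Subgroup.zpowers z := by
      rw [MonoidHom.map_zpowers]
      show Subgroup.zpowers (g * z * g⁻¹) = _
      rcases hg with hg | hg <;> rw [hg]
      exact Subgroup.zpowers_inv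
    constructor
    · intro hh
      rw [← h1]
      exact ⟨h, hh, rfl⟩
    · intro hh
      rw [← h1] at hh
      obtain ⟨x, hx, hx'⟩ := hh
      rwa [(MulAut.conj g).injective hx'] at hx
  -- the image of `z`
  have hzN : z ∈ N := hnorm z (Or.inl (by group))
  obtain ⟨k₀, hk₀⟩ := (range₀ z).2 hzN
  have hk3 : k₀ ^ 3 = 1 := inj₀ (by rw [map_pow, hk₀, hz3, map_one])
  have hk1 : k₀ ≠ 1 := fun h => hz1 (by rw [← hk₀, h, map_one])
  have hkconj : ∀ c : K, c * k₀ * c⁻¹ = k₀ ∨ c * k₀ * c⁻¹ = k₀⁻¹ := by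
    intro c
    have hc : ψ₀ c ∈ N := (range₀ _).1 ⟨c, rfl⟩
    rcases hzpow _ ((Subgroup.mem_normalizer_iff.1 hc z).1 (Subgroup.mem_zpowers z)) with h | h | h
    · exact absurd (conj_eq_one_iff.1 h) hz1
    · exact Or.inl (inj₀ (by rw [map_mul, map_mul, map_inv, hk₀, h]))
    · exact Or.inr (inj₀ (by rw [map_mul, map_mul, map_inv, map_inv, hk₀, h]))
  have hk₀eq : k₀ = kz ∨ k₀ = kz⁻¹ := by
    obtain ⟨⟨w, σ⟩, hmem⟩ := k₀
    have hs := mem_K.1 hmem
    have h3 := congrArg Subtype.val hk3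
    simp only [SubmonoidClass.coe_pow, Prod.pow_mk, Subgroup.coe_one, Prod.mk_eq_one] at h3
    have hne : ¬ (w = 1 ∧ σ = 1) := fun h => hk1 (Subtype.ext (Prod.ext h.1 h.2))
    have key : σ = 1 ∧ (w = u3 ∨ w = u3⁻¹) := by
      refine normal_three_aux w σ hs h3.1 h3.2 hne ?_
      rcases hkconj (kk 1 t5) with h | h <;> rcases hkconj (kk 1 p5) with h' | h' <;>
        simp only [kk, Subtype.ext_iff, Subgroup.coe_mul, InvMemClass.coe_inv, Prod.mk_mul_mk,
          Prod.inv_mk, Prod.ext_iff, inv_one, one_mul, mul_one] at h h'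
      · exact Or.inl ⟨h.2, h'.2⟩
      · exact Or.inr (Or.inr ⟨h'.2, h'.1⟩)
      · exact Or.inr (Or.inl ⟨h.2, h.1⟩)
      · exact Or.inr (Or.inl ⟨h.2, h.1⟩)
    rcases key.2 with rfl | rfl
    · exact Or.inl (Subtype.ext (Prod.ext rfl key.1))
    · exact Or.inr (Subtype.ext (Prod.ext rfl (key.1.trans inv_one.symm)))
  -- adjust the sign, then move `y`
  obtain ⟨c₁, hc₁⟩ : ∃ c₁ : K, c₁ * kz * c₁⁻¹ = k₀ := by
    rcases hk₀eq with rfl | rfl
    · exact ⟨1, by simp⟩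
    · exact ⟨kb, by rw [← kb_z, inv_eq_of_mul_eq_one_right kb_sq]⟩
  set ψ₁ : K →* G := ψ₀.comp (MulAut.conj c₁).toMonoidHom with hψ₁
  have inj₁ : Function.Injective ψ₁ := inj₀.comp (MulAut.conj c₁).injective
  have range₁ : ∀ g, g ∈ ψ₁.range ↔ g ∈ N := fun g => by
    rw [← range₀]
    refine ⟨fun ⟨k, hk⟩ => ⟨_, hk⟩, fun ⟨k, hk⟩ => ⟨(MulAut.conj c₁).symm k, ?_⟩⟩
    show ψ₀ ((MulAut.conj c₁) ((MulAut.conj c₁).symm k)) = g
    rw [MulEquiv.apply_symm_apply, hk]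
  have hz₁ : ψ₁ kz = z := by
    show ψ₀ (c₁ * kz * c₁⁻¹) = z
    rw [hc₁, hk₀]
  have hyN : y ∈ N := hnorm y (Or.inl (by rw [(hDc y hyD z hzD).eq]; group))
  obtain ⟨⟨⟨wy, σy⟩, hmy⟩, hky⟩ := (range₁ y).2 hyN
  obtain ⟨m, hm, rfl⟩ : ∃ m < 3, wy = u3 ^ m := by
    refine comm_u3 wy ?_
    have h1 : (⟨(wy, σy), hmy⟩ : K) * kz = kz * ⟨(wy, σy), hmy⟩ :=
      inj₁ (by rw [map_mul, map_mul, hky, hz₁, (hDc y hyD z hzD).eq])
    exact congrArg (fun k : K => (k : Perm (Fin 3) × Perm (Fin 5)).1) h1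
  have hσ3 : σy ^ 3 = 1 := by
    have h1 : (⟨(u3 ^ m, σy), hmy⟩ : K) ^ 3 = 1 := inj₁ (by
      rw [map_pow, hky, hexp y hyD, map_one])
    exact congrArg (fun k : K => (k : Perm (Fin 3) × Perm (Fin 5)).2) h1
  have hσ1 : σy ≠ 1 := by
    rintro rfl
    refine hsmall z hz3 (hgen ▸ (Subgroup.closure_le _).2 ?_)
    rintro x (rfl | rfl)
    · have : (⟨(u3 ^ m, 1), hmy⟩ : K) = kz ^ m := Subtype.ext (by simp [kz, kk])
      rw [← hky, this, map_pow, hz₁]
      exact pow_mem (Subgroup.mem_zpowers _) m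
    · exact Subgroup.mem_zpowers _
  obtain ⟨e, he, hee⟩ := three_conj5 σy hσ3 hσ1
  set eK : K := kk 1 e (by rw [he]; simp) with heK
  set ψ₂ : K →* G := ψ₁.comp (MulAut.conj eK).toMonoidHom with hψ₂
  have inj₂ : Function.Injective ψ₂ := inj₁.comp (MulAut.conj eK).injective
  have hz₂ : ψ₂ kz = z := by
    rw [← hz₁]
    refine congrArg ψ₁ (Subtype.ext ?_)
    simp [heK, kk, kz]
  have range₂ : ∀ g, g ∈ ψ₂.range ↔ g ∈ N := fun g => by
    rw [← range₁]
    refine ⟨fun ⟨k, hk⟩ => ⟨_, hk⟩, fun ⟨k, hk⟩ => ⟨(MulAut.conj eK).symm k, ?_⟩⟩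
    show ψ₁ ((MulAut.conj eK) ((MulAut.conj eK).symm k)) = g
    rw [MulEquiv.apply_symm_apply, hk]
  have hy₂ : ψ₂ (kz ^ m * kz') = y := by
    rw [← hky]
    refine congrArg ψ₁ (Subtype.ext ?_)
    simp [heK, kk, kz, kz', ← hee, mul_assoc]
  set z' := ψ₂ kz' with hz'def
  have hz'D : z' ∈ D := by
    have : z' = (z ^ m)⁻¹ * y := by
      rw [← hy₂, map_mul, map_pow, hz₂, ← hz'def]; group
    rw [this]
    exact mul_mem (inv_mem (pow_mem hzD m)) hyD
  have hz'3 : z' ^ 3 = 1 := hexp _ hz'D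
  have hDmem : ∀ x ∈ D, ∃ i < 3, ∃ j < 3, x = z ^ i * z' ^ j := by
    intro x hx
    suffices ∃ i j : ℕ, x = z ^ i * z' ^ j by
      obtain ⟨i, j, rfl⟩ := this
      exact ⟨i % 3, Nat.mod_lt _ (by norm_num), j % 3, Nat.mod_lt _ (by norm_num), by
        rw [← pow_eq_pow_mod i hz3, ← pow_eq_pow_mod j hz'3]⟩
    rw [← hgen] at hx
    induction hx using Subgroup.closure_induction with
    | mem v hv =>
      rcases hv with rfl | rfl
      · exact ⟨m, 1, by rw [← hy₂, map_mul, map_pow, hz₂, pow_one]⟩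
      · exact ⟨1, 0, by simp⟩
    | one => exact ⟨0, 0, by simp⟩
    | mul a b _ _ ha hb =>
      obtain ⟨i, j, rfl⟩ := ha
      obtain ⟨i', j', rfl⟩ := hb
      exact ⟨i + i', j + j', by
        rw [pow_add, pow_add, ((hDc _ hzD _ hz'D).symm.pow_pow j i').mul_mul_mul_comm]⟩
    | inv a _ ha =>
      obtain ⟨i, j, rfl⟩ := ha
      refine ⟨2 * i, 2 * j, inv_eq_of_mul_eq_one_left ?_⟩
      rw [((hDc _ hzD _ hz'D).symm.pow_pow (2 * j) i).mul_mul_mul_comm, ← pow_add, ← pow_add,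
        show 2 * i + i = 3 * i by ring, show 2 * j + j = 3 * j by ring, pow_mul, pow_mul, hz3, hz'3,
        one_pow, one_pow, one_mul]
  have huniq : ∀ i j i' j' : ℕ, z ^ i * z' ^ j = z ^ i' * z' ^ j' →
      i % 3 = i' % 3 ∧ j % 3 = j' % 3 := by
    intro i j i' j' h
    have h0 : z ^ ((i + 2 * i') % 3) * z' ^ ((j + 2 * j') % 3) = 1 := by
      rw [← pow_eq_pow_mod _ hz3, ← pow_eq_pow_mod _ hz'3, pow_add, pow_add,
        ((hDc _ hzD _ hz'D).pow_pow (2 * i') j).mul_mul_mul_comm, h,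
        ((hDc _ hzD _ hz'D).pow_pow (2 * i') j').symm.mul_mul_mul_comm, ← pow_add, ← pow_add,
        show i' + 2 * i' = 3 * i' by ring, show j' + 2 * j' = 3 * j' by ring, pow_mul, pow_mul,
        hz3, hz'3, one_pow, one_pow, one_mul]
    rw [← hz₂, hz'def, ← map_pow, ← map_pow, ← map_mul] at h0
    obtain ⟨h1, h2⟩ := kz_pows _ (Nat.mod_lt _ (by norm_num)) _ (Nat.mod_lt _ (by norm_num))
      (inj₂ (h0.trans (map_one _).symm))
    omega
  have hcD : ∀ h : G, Commute h z → Commute h z' → h ∈ D := by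
    intro h h1 h2
    rw [← hC]
    refine Subgroup.mem_centralizer_iff.2 fun x hx => ?_
    obtain ⟨i, -, j, -, rfl⟩ := hDmem x hx
    exact ((h1.pow_right i).mul_right (h2.pow_right j)).eq.symm
  -- powers of elements of the normaliser of `D`
  set ND := Subgroup.normalizer (D : Set G) with hND
  have hN4 : ∀ h ∈ ND, h ^ 4 ∈ D := by
    intro h hh
    have h1 : (QuotientGroup.mk' (D.subgroupOf ND)) (⟨h, hh⟩ ^ 4) = 1 := by
      apply eN.injective
      rw [map_pow, map_pow, map_one, dihedral_four]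
    exact Subgroup.mem_subgroupOf.1 ((QuotientGroup.eq_one_iff _).1 h1)
  have hstep : ∀ (h : G) (i j k l : ℕ), h * z * h⁻¹ = z ^ i * z' ^ j →
      h * z' * h⁻¹ = z ^ k * z' ^ l → ∀ v : ℕ × ℕ,
      h * (z ^ v.1 * z' ^ v.2) * h⁻¹ =
        z ^ (step i j k l v).1 * z' ^ (step i j k l v).2 := by
    intro h i j k l h1 h2 v
    have h3 : h * (z ^ v.1 * z' ^ v.2) * h⁻¹ = (h * z * h⁻¹) ^ v.1 * (h * z' * h⁻¹) ^ v.2 := by
      rw [conj_pow, conj_pow]; group
    rw [h3, h1, h2, ((hDc _ hzD _ hz'D).pow_pow i j).mul_pow,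
      ((hDc _ hzD _ hz'D).pow_pow k l).mul_pow, ← pow_mul, ← pow_mul, ← pow_mul, ← pow_mul,
      ((hDc _ hzD _ hz'D).symm.pow_pow (j * v.1) (k * v.2)).mul_mul_mul_comm, ← pow_add, ← pow_add]
    show _ = z ^ ((i * v.1 + k * v.2) % 3) * z' ^ ((j * v.1 + l * v.2) % 3)
    rw [← pow_eq_pow_mod _ hz3, ← pow_eq_pow_mod _ hz'3]
  have hstep_lt : ∀ (i j k l : ℕ) (v : ℕ × ℕ), (step i j k l v).1 % 3 = (step i j k l v).1 ∧
      (step i j k l v).2 % 3 = (step i j k l v).2 := fun i j k l v =>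
    ⟨Nat.mod_mod _ _, Nat.mod_mod _ _⟩
  have hfour : ∀ h ∈ ND, ∀ i j k l : ℕ, h * z * h⁻¹ = z ^ i * z' ^ j →
      h * z' * h⁻¹ = z ^ k * z' ^ l → four i j k l := by
    intro h hh i j k l h1 h2
    have hs := hstep h i j k l h1 h2
    have hfix : ∀ x ∈ D, h * (h * (h * (h * x * h⁻¹) * h⁻¹) * h⁻¹) * h⁻¹ = x := by
      intro x hx
      have := (hDc _ (hN4 h hh) x hx).eq
      calc _ = h ^ 4 * x * (h ^ 4)⁻¹ := by simp [pow_succ, mul_assoc]
        _ = x := by rw [this, mul_inv_cancel_right]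
    have key : ∀ v : ℕ × ℕ, v.1 < 3 → v.2 < 3 →
        step i j k l (step i j k l (step i j k l (step i j k l v))) = v := by
      intro v hv1 hv2
      have h4 := hfix (z ^ v.1 * z' ^ v.2) (mul_mem (pow_mem hzD _) (pow_mem hz'D _))
      rw [hs, hs, hs, hs] at h4
      obtain ⟨h5, h6⟩ := huniq _ _ _ _ h4
      rw [(hstep_lt _ _ _ _ _).1, Nat.mod_eq_of_lt hv1] at h5
      rw [(hstep_lt _ _ _ _ _).2, Nat.mod_eq_of_lt hv2] at h6
      exact Prod.ext h5 h6
    exact ⟨key (1, 0) (by norm_num) (by norm_num), key (0, 1) (by norm_num) (by norm_num)⟩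
  have hzpw : ∀ h ∈ ND, ∀ x ∈ D, h * x * h⁻¹ ∈ D := fun h hh x hx =>
    (Subgroup.mem_normalizer_iff.1 hh x).1 hx
  set b := ψ₂ kb with hb
  have hbb : b * b = 1 := by rw [hb, ← map_mul, kb_sq, map_one]
  have hbinv : b⁻¹ = b := inv_eq_of_mul_eq_one_right hbb
  have hbz : b * z * b⁻¹ = z⁻¹ := by
    rw [hbinv, hb, ← hz₂, ← map_mul, ← map_mul, kb_z, map_inv]
  have hbz' : b * z' * b⁻¹ = z' := by
    rw [hb, hz'def, ← map_mul, ← map_inv, ← map_mul, kb_z', mul_inv_cancel_right]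
  have hbD : b ∈ ND := by
    have key : ∀ x ∈ D, b * x * b⁻¹ ∈ D := by
      intro x hx
      obtain ⟨i, -, j, -, rfl⟩ := hDmem x hx
      rw [show b * (z ^ i * z' ^ j) * b⁻¹ = (b * z ^ i * b⁻¹) * (b * z' ^ j * b⁻¹) by group,
        ← conj_pow, ← conj_pow, hbz, hbz']
      exact mul_mem (pow_mem (inv_mem hzD) i) (pow_mem hz'D j)
    refine Subgroup.mem_normalizer_iff.2 fun x => ⟨key x, fun h => ?_⟩
    have := key _ h
    rwa [hbinv, show b * (b * x * b) * b = (b * b) * x * (b * b) by group, hbb, one_mul,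
      mul_one] at this
  have hfour_b : ∀ h ∈ ND, ∀ i j k l : ℕ, h * z * h⁻¹ = z ^ i * z' ^ j →
      h * z' * h⁻¹ = z ^ k * z' ^ l → four (2 * i % 3) (2 * j % 3) k l := by
    intro h hh i j k l h1 h2
    refine hfour (h * b) (mul_mem hh hbD) _ _ _ _ ?_ ?_
    · rw [show h * b * z * (h * b)⁻¹ = h * (b * z * b⁻¹) * h⁻¹ by group, hbz,
        show h * z⁻¹ * h⁻¹ = (h * z * h⁻¹)⁻¹ by group, h1, ← pow_eq_pow_mod _ hz3,
        ← pow_eq_pow_mod _ hz'3]
      apply inv_eq_of_mul_eq_one_left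
      rw [((hDc _ hzD _ hz'D).symm.pow_pow (2 * j) i).mul_mul_mul_comm, ← pow_add, ← pow_add,
        show 2 * i + i = 3 * i by ring, show 2 * j + j = 3 * j by ring, pow_mul, pow_mul, hz3,
        hz'3, one_pow, one_pow, one_mul]
    · rw [show h * b * z' * (h * b)⁻¹ = h * (b * z' * b⁻¹) * h⁻¹ by group, hbz', h2]
  -- `y` is diagonal
  have hm0 : m ≠ 0 := by
    rintro rfl
    rw [pow_zero, one_mul, ← hz'def] at hy₂
    by_cases hall : ∀ h ∈ ND, h ∈ N
    · obtain ⟨x, hx⟩ := dihedral_not_two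
      obtain ⟨⟨h, hh⟩, rfl⟩ : ∃ h : ND, eN (QuotientGroup.mk' (D.subgroupOf ND) h) = x := by
        obtain ⟨g, hg⟩ := eN.surjective x
        obtain ⟨h, rfl⟩ := QuotientGroup.mk_surjective g
        exact ⟨h, hg⟩
      apply hx
      rw [← map_pow, ← map_pow, MulEquiv.map_eq_one_iff, QuotientGroup.mk'_apply,
        QuotientGroup.eq_one_iff, Subgroup.mem_subgroupOf]
      obtain ⟨⟨⟨w, σ⟩, hk⟩, hk'⟩ := (range₂ h).2 (hall h hh)
      obtain ⟨j, hj, hjσ⟩ : ∃ j < 3, σ * t5 * σ⁻¹ = t5 ^ j := by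
        obtain ⟨i, hi, j, hj, hij⟩ := hDmem _ (hzpw h hh z' hz'D)
        rw [← hk', ← hz₂, hz'def, ← map_inv, ← map_mul, ← map_mul, ← map_pow, ← map_pow,
          ← map_mul] at hij
        refine ⟨j, hj, ?_⟩
        have := congrArg (fun k : K => (k : Perm (Fin 3) × Perm (Fin 5)).2) (inj₂ hij)
        simpa [kz, kz', kk] using this
      obtain ⟨i, -, j', -, hw2, hσ2⟩ := norm_sq w σ (mem_K.1 hk) ⟨j, hj, hjσ⟩
      show h ^ 2 ∈ D
      have : (⟨(w, σ), hk⟩ : K) ^ 2 = kz ^ i * kz' ^ j' :=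
        Subtype.ext (by simp [kz, kz', kk, pow_two, hw2, hσ2])
      rw [← hk', ← map_pow, this, map_mul, map_pow, map_pow, hz₂]
      exact mul_mem (pow_mem hzD i) (pow_mem hz'D j')
    · simp only [not_forall] at hall
      obtain ⟨g, hg, hgN⟩ := hall
      obtain ⟨i, hi, j, hj, hij⟩ := hDmem _ (hzpw g hg z hzD)
      obtain ⟨k, hk, l, hl, hkl⟩ := hDmem _ (hzpw g hg z' hz'D)
      have hj0 : j ≠ 0 := by
        rintro rfl
        rw [pow_zero, mul_one] at hij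
        interval_cases i
        · exact hz1 (conj_eq_one_iff.1 (hij.trans (pow_zero z)))
        · exact hgN (hnorm g (Or.inl (hij.trans (pow_one z))))
        · exact hgN (hnorm g (Or.inr (hij.trans
            (eq_inv_of_mul_eq_one_left (by rw [← pow_succ, hz3])))))
      obtain rfl := mat_moves i hi j hj k hk l hl (hfour g hg _ _ _ _ hij hkl)
        (hfour_b g hg _ _ _ _ hij hkl) hj0
      rw [pow_zero, one_mul] at hij
      have hf : g * ψ₂ kf * g⁻¹ ∈ Subgroup.centralizer ({y} : Set G) := by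
        have hc : Commute (g * ψ₂ kf * g⁻¹) (z' ^ j) := by
          rw [← hij, ← hz₂]
          exact ((show Commute kf kz from kf_z).map ψ₂).map (MulAut.conj g)
        rw [Subgroup.mem_centralizer_singleton_iff, ← hy₂]
        interval_cases j
        · exact absurd rfl hj0
        · rw [pow_one] at hc
          exact hc.eq
        · have h2 := hc.pow_right 2
          rw [← pow_mul, show 2 * 2 = 3 + 1 by norm_num, pow_succ, hz'3, one_mul] at h2
          exact h2.eq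
      have h5 := orderOf_dvd_natCard (⟨_, hf⟩ : Subgroup.centralizer ({y} : Set G))
      rw [Subgroup.orderOf_mk, hycard, ← MulAut.conj_apply, MulEquiv.orderOf_eq,
        orderOf_injective _ inj₂, kf_order] at h5
      norm_num at h5
  -- normalise `y = z z'`
  obtain ⟨c₃, hc₃z, hc₃y, hc₃z'⟩ : ∃ c₃ : K, (c₃ * kz * c₃⁻¹ = kz ∨ c₃ * kz * c₃⁻¹ = kz⁻¹) ∧
      c₃ * (kz * kz') * c₃⁻¹ = kz ^ m * kz' ∧ c₃ * kz' * c₃⁻¹ = kz' := by
    interval_cases m
    · exact absurd rfl hm0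
    · exact ⟨1, Or.inl (by simp), by simp, by simp⟩
    · exact ⟨kb, Or.inr (by decide +kernel), by decide +kernel, by decide +kernel⟩
  set ψ : K →* G := ψ₂.comp (MulAut.conj c₃).toMonoidHom with hψ
  have inj : Function.Injective ψ := inj₂.comp (MulAut.conj c₃).injective
  have hψz : ψ kz = z ∨ ψ kz = z⁻¹ := by
    show ψ₂ (c₃ * kz * c₃⁻¹) = z ∨ ψ₂ (c₃ * kz * c₃⁻¹) = z⁻¹
    rcases hc₃z with h | h <;> rw [h]
    · exact Or.inl hz₂
    · exact Or.inr (by rw [map_inv, hz₂])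
  have hψz' : ψ kz' = z' := congrArg ψ₂ hc₃z'
  have hψy : ψ kz * ψ kz' = y := by
    rw [← map_mul, ← hy₂]
    exact congrArg ψ₂ hc₃y
  have hrange : ∀ g, g ∈ N → g ∈ ψ.range := fun g hg => by
    obtain ⟨k, hk⟩ := (range₂ g).2 hg
    refine ⟨(MulAut.conj c₃).symm k, ?_⟩
    show ψ₂ ((MulAut.conj c₃) ((MulAut.conj c₃).symm k)) = g
    rw [MulEquiv.apply_symm_apply, hk]
  have hnormψ : ∀ g : G, g * ψ kz * g⁻¹ = ψ kz ∨ g * ψ kz * g⁻¹ = (ψ kz)⁻¹ → g ∈ ψ.range := by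
    intro g hg
    refine hrange g (hnorm g ?_)
    rcases hψz with h | h <;> rw [h] at hg
    · exact hg
    · rw [show g * z⁻¹ * g⁻¹ = (g * z * g⁻¹)⁻¹ by group, inv_inj, inv_inj] at hg
      exact hg
  have hcψ : ∀ h : G, Commute h (ψ kz) → Commute h (ψ kz') → h ∈ D := by
    intro h h1 h2
    refine hcD h ?_ (hψz' ▸ h2)
    rcases hψz with e | e <;> rw [e] at h1
    · exact h1
    · simpa using h1.inv_right
  -- the swapping involution
  obtain ⟨⟨x, hxC⟩, hx⟩ : ∃ x : Subgroup.centralizer ({y} : Set G), orderOf x = 2 := by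
    have : Fact (Nat.Prime 2) := ⟨Nat.prime_two⟩
    exact exists_prime_orderOf_dvd_card' 2 (by rw [hycard]; norm_num)
  have hx2 : x * x = 1 := by
    have := pow_orderOf_eq_one (⟨x, hxC⟩ : Subgroup.centralizer ({y} : Set G))
    rw [hx, pow_two] at this
    exact congrArg Subtype.val this
  have hxinv : x⁻¹ = x := inv_eq_of_mul_eq_one_right hx2
  have hxy : Commute x y := Subgroup.mem_centralizer_singleton_iff.1 hxC
  have hDy : D ≤ Subgroup.centralizer ({y} : Set G) := fun a ha =>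
    Subgroup.mem_centralizer_singleton_iff.2 (hDc a ha y hyD).eq
  have hxD : x ∈ ND := by
    have key : ∀ a ∈ D, x * a * x⁻¹ ∈ D := fun a ha =>
      Subgroup.mem_subgroupOf.1 (hyn.conj_mem ⟨a, hDy ha⟩ ha ⟨x, hxC⟩)
    refine Subgroup.mem_normalizer_iff.2 fun a => ⟨key a, fun h => ?_⟩
    have := key _ h
    rwa [hxinv, show x * (x * a * x) * x = (x * x) * a * (x * x) by group, hx2, one_mul,
      mul_one] at this
  have hx1 : x ≠ 1 := by
    rintro rfl
    rw [Subgroup.orderOf_mk, orderOf_one] at hx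
    norm_num at hx
  obtain ⟨i, hi, j, hj, hij⟩ := hDmem _ (hzpw x hxD z hzD)
  obtain ⟨k, hk, l, hl, hkl⟩ := hDmem _ (hzpw x hxD z' hz'D)
  have hs := hstep x i j k l hij hkl
  have hfix2 : ∀ v : ℕ × ℕ, v.1 < 3 → v.2 < 3 → step i j k l (step i j k l v) = v := by
    intro v hv1 hv2
    have h4 : x * (x * (z ^ v.1 * z' ^ v.2) * x⁻¹) * x⁻¹ = z ^ v.1 * z' ^ v.2 := by
      rw [hxinv, show x * (x * (z ^ v.1 * z' ^ v.2) * x) * x =
        (x * x) * (z ^ v.1 * z' ^ v.2) * (x * x) by group, hx2, one_mul, mul_one]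
    rw [hs, hs] at h4
    obtain ⟨h5, h6⟩ := huniq _ _ _ _ h4
    rw [(hstep_lt _ _ _ _ _).1, Nat.mod_eq_of_lt hv1] at h5
    rw [(hstep_lt _ _ _ _ _).2, Nat.mod_eq_of_lt hv2] at h6
    exact Prod.ext h5 h6
  have hyfix : x * (z ^ m * z' ^ 1) * x⁻¹ = z ^ m * z' ^ 1 := by
    rw [pow_one, ← hz₂, hz'def, ← map_pow, ← map_mul, hy₂, hxy.eq, mul_inv_cancel_right]
  rw [hs (m, 1)] at hyfix
  obtain ⟨hy5, hy6⟩ := huniq _ _ _ _ hyfix
  rw [(hstep_lt _ _ _ _ _).1] at hy5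
  rw [(hstep_lt _ _ _ _ _).2] at hy6
  have hswap : x * ψ kz * x = ψ kz' ∧ x * ψ kz' * x = ψ kz := by
    have h1 := hfour_b x hxD _ _ _ _ hij hkl
    have hne : ¬ (i = 1 ∧ j = 0 ∧ k = 0 ∧ l = 1) := by
      rintro ⟨rfl, rfl, rfl, rfl⟩
      rw [pow_one, pow_zero, mul_one, mul_inv_eq_iff_eq_mul] at hij
      rw [pow_one, pow_zero, one_mul, mul_inv_eq_iff_eq_mul] at hkl
      have h3 : x ^ 3 = 1 := hexp x (hcD x hij hkl)
      rw [pow_succ, pow_two, hx2, one_mul] at h3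
      exact hx1 h3
    interval_cases m
    · exact absurd rfl hm0
    · -- `y = z z'`
      have hψz1 : ψ kz = z := by
        rcases hψz with h | h
        · exact h
        · exfalso
          have h7 : z⁻¹ * z' = z ^ 1 * z' := by
            have := hψy.trans hy₂.symm
            rwa [h, hψz', map_mul, map_pow, hz₂, ← hz'def] at this
          rw [mul_left_inj, pow_one, inv_eq_iff_mul_eq_one] at h7
          exact hz1 (by rw [← hz3, pow_succ, pow_two, h7, one_mul])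
      simp only [step, mul_one] at hy5 hy6
      obtain ⟨rfl, rfl, rfl, rfl⟩ := mat_swap i hi j hj k hk l hl h1 (by omega) (by omega)
        (hfix2 (1, 0) (by norm_num) (by norm_num)) (hfix2 (0, 1) (by norm_num) (by norm_num)) hne
      rw [hψz1, hψz']
      rw [pow_zero, one_mul, pow_one, hxinv] at hij
      rw [pow_zero, mul_one, pow_one, hxinv] at hkl
      exact ⟨hij, hkl⟩
    · -- `y = z⁻¹ z'`
      have hψz2 : ψ kz = z ^ 2 := by
        have h7 := hψy.trans hy₂.symm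
        rw [hψz', map_mul, map_pow, hz₂, ← hz'def] at h7
        exact mul_right_cancel h7
      have key : ∀ i < 3, ∀ j < 3, ∀ k < 3, ∀ l < 3,
          four (2 * i % 3) (2 * j % 3) k l → (i * 2 + k * 1) % 3 % 3 = 2 % 3 →
          (j * 2 + l * 1) % 3 % 3 = 1 % 3 →
          step i j k l (step i j k l (1, 0)) = (1, 0) →
          step i j k l (step i j k l (0, 1)) = (0, 1) →
          ¬ (i = 1 ∧ j = 0 ∧ k = 0 ∧ l = 1) → i = 0 ∧ j = 2 ∧ k = 2 ∧ l = 0 := by
        intro i hi j hj k hk l hl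
        exact (show ∀ i j k l : Fin 3, four (2 * i.val % 3) (2 * j.val % 3) k l →
          (i.val * 2 + k.val * 1) % 3 % 3 = 2 % 3 → (j.val * 2 + l.val * 1) % 3 % 3 = 1 % 3 →
          step i j k l (step i j k l (1, 0)) = (1, 0) →
          step i j k l (step i j k l (0, 1)) = (0, 1) →
          ¬ (i.val = 1 ∧ j.val = 0 ∧ k.val = 0 ∧ l.val = 1) →
          i.val = 0 ∧ j.val = 2 ∧ k.val = 2 ∧ l.val = 0 from by decide +kernel)
          ⟨i, hi⟩ ⟨j, hj⟩ ⟨k, hk⟩ ⟨l, hl⟩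
      obtain ⟨rfl, rfl, rfl, rfl⟩ := key i hi j hj k hk l hl h1
        (by simp only [step] at hy5; omega) (by simp only [step] at hy6; omega)
        (hfix2 (1, 0) (by norm_num) (by norm_num)) (hfix2 (0, 1) (by norm_num) (by norm_num)) hne
      rw [hψz2, hψz']
      rw [pow_zero, one_mul, hxinv] at hij
      rw [pow_zero, mul_one, hxinv] at hkl
      refine ⟨?_, hkl⟩
      rw [pow_two z, show x * (z * z) * x = (x * z * x) * (x * z * x) from by
        rw [show x * z * x * (x * z * x) = x * z * (x * x) * z * x by group, hx2]; group, hij,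
        ← pow_add, show 2 + 2 = 3 + 1 by norm_num, pow_succ, hz'3, one_mul]
  obtain ⟨hxz, hxz'⟩ := hswap
  -- conjugate so that `q a q = b`
  have hxax : x * ψ ka * x ∈ ψ.range := by
    refine hnormψ _ (Or.inr ?_)
    have ha2 : (ψ ka)⁻¹ = ψ ka := inv_eq_of_mul_eq_one_right (by rw [← map_mul, ka_sq, map_one])
    calc x * ψ ka * x * ψ kz * (x * ψ ka * x)⁻¹
        = x * ψ ka * (x * ψ kz * x) * ψ ka * x := by
          rw [mul_inv_rev, mul_inv_rev, hxinv, ha2]; group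
      _ = x * (ψ (ka * kz' * ka)) * x := by rw [hxz, map_mul, map_mul]; group
      _ = (x * ψ kz' * x)⁻¹ := by rw [ka_z', map_inv, mul_inv_rev, mul_inv_rev, hxinv]; group
      _ = (ψ kz)⁻¹ := by rw [hxz']
  obtain ⟨⟨⟨w, σ⟩, hwσ⟩, hk'⟩ := hxax
  have hxa : x * ψ ka * x * (x * ψ ka * x) = 1 := by
    rw [show x * ψ ka * x * (x * ψ ka * x) = x * ψ ka * (x * x) * ψ ka * x by group, hx2, mul_one,
      mul_assoc x, ← map_mul, ka_sq, map_one, mul_one, hx2]
  have hwz : (⟨(w, σ), hwσ⟩ : K) * kz * (⟨(w, σ), hwσ⟩ : K)⁻¹ = kz⁻¹ := by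
    apply inj
    have ha2 : (ψ ka)⁻¹ = ψ ka := inv_eq_of_mul_eq_one_right (by rw [← map_mul, ka_sq, map_one])
    rw [map_mul, map_mul, map_inv, map_inv, hk']
    calc x * ψ ka * x * ψ kz * (x * ψ ka * x)⁻¹
        = x * ψ ka * (x * ψ kz * x) * ψ ka * x := by
          rw [mul_inv_rev, mul_inv_rev, hxinv, ha2]; group
      _ = x * (ψ (ka * kz' * ka)) * x := by rw [hxz, map_mul, map_mul]; group
      _ = (x * ψ kz' * x)⁻¹ := by rw [ka_z', map_inv, mul_inv_rev, mul_inv_rev, hxinv]; group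
      _ = (ψ kz)⁻¹ := by rw [hxz']
  have hwz' : (⟨(w, σ), hwσ⟩ : K) * kz' = kz' * ⟨(w, σ), hwσ⟩ := by
    apply inj
    rw [map_mul, map_mul, hk']
    calc x * ψ ka * x * ψ kz' = x * ψ ka * (x * ψ kz' * x) * x := by
          rw [show x * ψ ka * (x * ψ kz' * x) * x = x * ψ ka * x * ψ kz' * (x * x) by group, hx2,
            mul_one]
      _ = x * ψ (ka * kz) * x := by rw [hxz', map_mul]; group
      _ = (x * ψ kz * x) * (x * ψ ka * x) := by
          rw [ka_z, map_mul, show x * ψ kz * x * (x * ψ ka * x) =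
            x * ψ kz * (x * x) * ψ ka * x by group, hx2, mul_one]
          group
      _ = ψ kz' * (x * ψ ka * x) := by rw [hxz]
  have hw2 : (⟨(w, σ), hwσ⟩ : K) * ⟨(w, σ), hwσ⟩ = 1 :=
    inj (by rw [map_mul, hk', hxa, map_one])
  obtain ⟨rfl, r, hr, rfl⟩ := inv_u3_cases w σ (mem_K.1 hwσ)
    (congrArg (fun k : K => (k : Perm (Fin 3) × Perm (Fin 5)).1) hwz)
    (congrArg (fun k : K => (k : Perm (Fin 3) × Perm (Fin 5)).2) hwz')
    (congrArg (fun k : K => (k : Perm (Fin 3) × Perm (Fin 5)).1) hw2)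
    (congrArg (fun k : K => (k : Perm (Fin 3) × Perm (Fin 5)).2) hw2)
  set d := (ψ kz ^ r)⁻¹ with hd
  refine ⟨{ ψ := ψ, inj := inj, q := d * x * d⁻¹, q_sq := ?_, q_z := ?_, q_a := ?_,
            norm := hnormψ, not27 := ?_, card_y := ?_, cent_D := fun g h1 h2 => hexp g (hcψ g h1 h2) }⟩
  · rw [show d * x * d⁻¹ * (d * x * d⁻¹) = d * (x * x) * d⁻¹ by group, hx2]; group
  · have h1 : Commute d (ψ kz) := ((Commute.refl (ψ kz)).pow_left r).inv_left
    have h2 : Commute d (ψ kz') :=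
      (((show Commute kz kz' from kz_z').map ψ).pow_left r).inv_left
    calc d * x * d⁻¹ * ψ kz * (d * x * d⁻¹) = d * x * (d⁻¹ * ψ kz * d) * x * d⁻¹ := by group
      _ = d * (x * ψ kz * x) * d⁻¹ := by
          rw [show d⁻¹ * ψ kz * d = ψ kz by rw [mul_assoc, ← h1.eq, inv_mul_cancel_left]]; group
      _ = ψ kz' := by rw [hxz, h2.mul_inv_cancel]
  · have h1 : Commute d (ψ ka) :=
      (((show Commute kz ka from ka_z.symm).map ψ).pow_left r).inv_left
    calc d * x * d⁻¹ * ψ ka * (d * x * d⁻¹) = d * x * (d⁻¹ * ψ ka * d) * x * d⁻¹ := by group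
      _ = d * (x * ψ ka * x) * d⁻¹ := by
          rw [show d⁻¹ * ψ ka * d = ψ ka by rw [mul_assoc, ← h1.eq, inv_mul_cancel_left]]; group
      _ = ψ kb := by
        rw [← hk', hd, ← map_pow, ← map_inv, ← map_inv, ← map_mul, ← map_mul]
        refine congrArg ψ (Subtype.ext ?_)
        simp [kz, kb, kk, mul_assoc]
  · intro h27
    obtain ⟨n, hn⟩ := IsPGroup.iff_card.1 P.2
    have hP : Nat.card (P : Subgroup G) = 9 := by rw [← hDP, hcard]
    have hpow := P.pow_dvd_card_of_pow_dvd_card h27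
    rw [hP] at hpow
    norm_num at hpow
  · rw [hψy, hycard]

end Cfsg.Agent.H87.AltEight
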