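import Mathlib
import Cfsg.Agent.H87.AltEightData
import Cfsg.Agent.H87.SymEightEndgame
import Cfsg.Agent.H87.SymEightIndex
import Cfsg.Agent.H20.Generation

/-!
Two commuting four groups, centralised by `z` and by `z'`, in a group with the three-local data of
the alternating group of degree eight.
-/

set_option autoImplicit false
set_option maxRecDepth 20000
set_option synthInstance.maxSize 4000
set_option synthInstance.maxHeartbeats 200000
set_option maxHeartbeats 1000000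

namespace Cfsg.Agent.H87.AltEight

open Equiv Cfsg.Agent.H34.SymEight

universe u

/-- The first involution of the four group normalised by `t5`. -/
def kv : K := kk 1 (f5' false)
/-- The second one. -/
def kv' : K := kk 1 (t5 * f5' false * t5⁻¹)
/-- A second involution of the four group of `ka`. -/
def ka' : K := kk 1 (swap 0 3 * swap 1 4)
/-- Conjugates the one four group to the other. -/
def kp : K := kk 1 p5⁻¹

/-- An involution, given in the degree five part, of a four group normalised by `t5`. -/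
def kF (j : Bool) : K := kk 1 (f5' j) (by cases j <;> decide)

theorem kv_sq : kv * kv = 1 := by decide +kernel
theorem kv_ne : kv ≠ 1 := by decide +kernel
theorem kz_kv : kz * kv = kv * kz := by decide +kernel
theorem kz_kv' : kz * kv' = kv' * kz := by decide +kernel
theorem kz'_kv : kz' * kv * kz'⁻¹ = kv' := by decide +kernel
theorem kz'_kv' : kz' * kv' * kz'⁻¹ = kv * kv' := by decide +kernel
theorem kz'_kv_inv : kz'⁻¹ * kv * kz' = kv * kv' := by decide +kernel
theorem kz'_kv'_inv : kz'⁻¹ * kv' * kz' = kv := by decide +kernel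
theorem kp_z : kp * kz = kz * kp := by decide +kernel
theorem kp_v : (kp * kv * kp⁻¹ = ka ∨ kp * kv * kp⁻¹ = ka' ∨ kp * kv * kp⁻¹ = ka * ka') ∧
    (kp * kv' * kp⁻¹ = ka ∨ kp * kv' * kp⁻¹ = ka' ∨ kp * kv' * kp⁻¹ = ka * ka') := by
  decide +kernel
theorem ka'_sq : ka' * ka' = 1 := by decide +kernel
theorem ka'_z : ka' * kz = kz * ka' := by decide +kernel
theorem ka_ka' : ka * ka' = ka' * ka := by decide +kernel
theorem ka_kb : ka * kb = kb * ka := by decide +kernel
theorem ka_ne : ka ≠ 1 := by decide +kernel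

theorem kF_conj : ∀ j, kz * kz' * (kz')⁻¹ = kz ∧ kz' * kF j * kz'⁻¹ = kk 1 (t5 * f5' j * t5⁻¹)
    (by cases j <;> decide) ∧ kz'⁻¹ * kF j * kz' = kk 1 (t5⁻¹ * f5' j * t5)
    (by cases j <;> decide) := by
  intro j
  cases j <;> decide +kernel

theorem K_ext {k k' : K}
    (h1 : (k : Perm (Fin 3) × Perm (Fin 5)).1 = (k' : Perm (Fin 3) × Perm (Fin 5)).1)
    (h2 : (k : Perm (Fin 3) × Perm (Fin 5)).2 = (k' : Perm (Fin 3) × Perm (Fin 5)).2) : k = k' :=
  Subtype.ext (Prod.ext h1 h2)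

theorem inv_cases_aux : ∀ w : Perm (Fin 3), ∀ σ : Perm (Fin 5),
    Perm.sign w * Perm.sign σ = 1 → w * w = 1 → σ * σ = 1 → ¬ (w = 1 ∧ σ = 1) →
    (w = 1 ∧ ∃ e : Perm (Fin 5), Perm.sign e = 1 ∧ e * a5 * e⁻¹ = σ) ∨
      (∃ m < 3, u3 ^ m * w3 * (u3 ^ m)⁻¹ = w) ∧
        ∃ e : Perm (Fin 5), Perm.sign e = 1 ∧ e * c5 * e⁻¹ = σ := by
  decide +kernel

theorem inv_cases {k : K} (h2 : k * k = 1) (h1 : k ≠ 1) :
    ∃ c : K, c * ka * c⁻¹ = k ∨ c * kb * c⁻¹ = k := by
  obtain ⟨⟨w, σ⟩, hk⟩ := k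
  have h := congrArg Subtype.val h2
  simp only [Subgroup.coe_mul, Prod.mk_mul_mk, Subgroup.coe_one, Prod.mk_eq_one] at h
  rcases inv_cases_aux w σ (mem_K.1 hk) h.1 h.2 (fun e => h1 (K_ext e.1 e.2)) with
    ⟨rfl, e, he, rfl⟩ | ⟨⟨m, hm, rfl⟩, e, he, rfl⟩
  · exact ⟨kk 1 e (by rw [he]; simp), Or.inl (Subtype.ext (by simp [kk, ka]))⟩
  · exact ⟨kk (u3 ^ m) e (by rw [he, u3_pow_sign m hm]; simp),
      Or.inr (Subtype.ext (by simp [kk, kb]))⟩

theorem D9_cases_aux : ∀ w : Perm (Fin 3), ∀ σ : Perm (Fin 5), Perm.sign w * Perm.sign σ = 1 →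
    w * u3 = u3 * w → σ * t5 = t5 * σ → (∃ i < 3, w = u3 ^ i) ∧ ∃ j < 3, σ = t5 ^ j := by
  decide +kernel

theorem D9_cases {k : K} (h1 : k * kz = kz * k) (h2 : k * kz' = kz' * k) :
    ∃ i < 3, ∃ j < 3, k = kz ^ i * kz' ^ j := by
  obtain ⟨⟨w, σ⟩, hk⟩ := k
  obtain ⟨⟨i, hi, rfl⟩, j, hj, rfl⟩ := D9_cases_aux w σ (mem_K.1 hk)
    (congrArg (fun k : K => (k : Perm (Fin 3) × Perm (Fin 5)).1) h1)
    (congrArg (fun k : K => (k : Perm (Fin 3) × Perm (Fin 5)).2) h2)
  exact ⟨i, hi, j, hj, Subtype.ext (by simp [kk, kz, kz'])⟩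

theorem card_fixes : Nat.card {p : Fin 3 × Fin 3 // True} = 9 := by
  rw [Nat.card_eq_fintype_card]; decide

theorem cent_VA_aux : ∀ w : Perm (Fin 3), ∀ σ : Perm (Fin 5), Perm.sign w * Perm.sign σ = 1 →
    w ^ 3 = 1 → σ ^ 3 = 1 → σ * a5 = a5 * σ → σ * (swap 0 3 * swap 1 4) =
      swap 0 3 * swap 1 4 * σ → σ = 1 ∧ (w = 1 ∨ w = u3 ∨ w = u3⁻¹) := by
  decide +kernel

theorem cent_V3_aux : ∀ w : Perm (Fin 3), ∀ σ : Perm (Fin 5), Perm.sign w * Perm.sign σ = 1 →
    w ^ 3 = 1 → σ ^ 3 = 1 → σ * f5' false = f5' false * σ →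
    σ * (t5 * f5' false * t5⁻¹) = t5 * f5' false * t5⁻¹ * σ →
      σ = 1 ∧ (w = 1 ∨ w = u3 ∨ w = u3⁻¹) := by
  decide +kernel

/-- The Sylow 2-subgroup of `K` around `ka`. -/
def K8 : Subgroup K :=
  Subgroup.centralizer {ka} ⊓ (Subgroup.centralizer {w3}).comap
    ((MonoidHom.fst (Perm (Fin 3)) (Perm (Fin 5))).comp K.subtype)

theorem mem_K8 {w : Perm (Fin 3)} {σ : Perm (Fin 5)} (h : (w, σ) ∈ K) :
    (⟨(w, σ), h⟩ : K) ∈ K8 ↔ σ * a5 = a5 * σ ∧ w * w3 = w3 * w := by
  simp [K8, Subgroup.mem_centralizer_singleton_iff, Subtype.ext_iff, ka, kk]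

theorem card_K8 : Nat.card K8 = 8 := by
  have e : K8 ≃ {p : Perm (Fin 3) × Perm (Fin 5) // Perm.sign p.1 * Perm.sign p.2 = 1 ∧
      p.2 * a5 = a5 * p.2 ∧ p.1 * w3 = w3 * p.1} :=
    { toFun := fun k => ⟨((k : K) : Perm (Fin 3) × Perm (Fin 5)), mem_K.1 (k : K).2,
        (mem_K8 (k : K).2).1 k.2⟩
      invFun := fun p => ⟨⟨p.1, mem_K.2 p.2.1⟩, (mem_K8 (mem_K.2 p.2.1)).2 p.2.2⟩
      left_inv := fun _ => rfl
      right_inv := fun _ => rfl }
  rw [Nat.card_congr e, Nat.card_eq_fintype_card]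
  decide +kernel

theorem fours_aux : ∀ p q : Perm (Fin 3) × Perm (Fin 5),
    Perm.sign p.1 * Perm.sign p.2 = 1 → p.2 * a5 = a5 * p.2 → p.1 * w3 = w3 * p.1 →
    p * p = 1 → p ≠ 1 →
    Perm.sign q.1 * Perm.sign q.2 = 1 → q.2 * a5 = a5 * q.2 → q.1 * w3 = w3 * q.1 →
    q * q = 1 → q ≠ 1 → p * q = q * p → p ≠ q →
    ((p = (1, a5) ∨ p = (1, swap 0 3 * swap 1 4) ∨ p = (1, a5 * (swap 0 3 * swap 1 4))) ∧
      (q = (1, a5) ∨ q = (1, swap 0 3 * swap 1 4) ∨ q = (1, a5 * (swap 0 3 * swap 1 4)))) ∨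
    ((p = (1, a5) ∨ p = (w3, c5) ∨ p = (w3, a5 * c5)) ∧
      (q = (1, a5) ∨ q = (w3, c5) ∨ q = (w3, a5 * c5))) := by
  decide +kernel

namespace Data

variable {G : Type u} [Group G] (d : Data G)

/-- The central element of order three. -/
def z : G := d.ψ kz
/-- Its mate. -/
def z' : G := d.ψ kz'
/-- The four group centralised by `z`. -/
def v : G := d.ψ kv
/-- The four group centralised by `z`. -/
def v' : G := d.ψ kv'
/-- The candidates for the partner four group. -/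
def f (j : Bool) : G := d.q * d.ψ (kF j) * d.q

theorem q_inv : d.q⁻¹ = d.q := inv_eq_of_mul_eq_one_right d.q_sq

theorem qzq : d.q * d.z * d.q = d.z' := d.q_z

theorem qz'q : d.q * d.z' * d.q = d.z := by
  rw [← d.qzq, show d.q * (d.q * d.z * d.q) * d.q = (d.q * d.q) * d.z * (d.q * d.q) by group,
    d.q_sq, one_mul, mul_one]

theorem q_b : d.q * d.ψ kb * d.q = d.ψ ka := by
  rw [← d.q_a, show d.q * (d.q * d.ψ ka * d.q) * d.q = (d.q * d.q) * d.ψ ka * (d.q * d.q) by group,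
    d.q_sq, one_mul, mul_one]

theorem z_cube : d.z ^ 3 = 1 := by rw [z, ← map_pow, kz_cube, map_one]

theorem z'_cube : d.z' ^ 3 = 1 := by rw [z', ← map_pow, kz'_cube, map_one]

theorem z_ne : d.z ≠ 1 := fun h => kz_ne (d.inj (h.trans (map_one _).symm))

theorem z_z' : Commute d.z d.z' := (show Commute kz kz' from kz_z').map d.ψ

theorem z_order : orderOf d.z = 3 := by
  have : Fact (Nat.Prime 3) := ⟨Nat.prime_three⟩
  exact orderOf_eq_prime d.z_cube d.z_ne

theorem cz {g : G} (h : Commute g d.z) :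
    ∃ (i : ℕ) (σ : Perm (Fin 5)) (hσ : Perm.sign σ = 1),
      g = d.ψ (kz ^ i * kk 1 σ (by rw [hσ]; simp)) := by
  obtain ⟨⟨⟨w, σ⟩, hk⟩, rfl⟩ := d.norm g (Or.inl (mul_inv_eq_iff_eq_mul.2 h.eq))
  have h1 := d.inj (show d.ψ (⟨(w, σ), hk⟩ * kz) = d.ψ (kz * ⟨(w, σ), hk⟩) by
    rw [map_mul, map_mul]; exact h.eq)
  obtain ⟨i, hi, rfl⟩ := comm_u3 w (congrArg (fun k : K => (k : Perm (Fin 3) × Perm (Fin 5)).1) h1)
  have hσ : Perm.sign σ = 1 := by simpa [u3_pow_sign i hi] using mem_K.1 hk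
  exact ⟨i, σ, hσ, congrArg d.ψ (Subtype.ext (by simp [kk, kz]))⟩

theorem cz' {g : G} (h : Commute g d.z') :
    ∃ (i : ℕ) (σ : Perm (Fin 5)) (hσ : Perm.sign σ = 1),
      g = d.q * d.ψ (kz ^ i * kk 1 σ (by rw [hσ]; simp)) * d.q := by
  have h1 : Commute (d.q * g * d.q) d.z := by
    rw [← d.qz'q]
    show d.q * g * d.q * (d.q * d.z' * d.q) = d.q * d.z' * d.q * (d.q * g * d.q)
    rw [show d.q * g * d.q * (d.q * d.z' * d.q) = d.q * g * (d.q * d.q) * d.z' * d.q by group,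
      show d.q * d.z' * d.q * (d.q * g * d.q) = d.q * d.z' * (d.q * d.q) * g * d.q by group,
      d.q_sq, mul_one, mul_one, mul_assoc d.q g, h.eq, ← mul_assoc d.q]
  obtain ⟨i, σ, hσ, he⟩ := d.cz h1
  refine ⟨i, σ, hσ, ?_⟩
  rw [← he, show d.q * (d.q * g * d.q) * d.q = (d.q * d.q) * g * (d.q * d.q) by group, d.q_sq,
    one_mul, mul_one]

/-- The Sylow 3-subgroup. -/
def D9 : Subgroup G := (Subgroup.centralizer ({kz, kz'} : Set K)).map d.ψ

theorem mem_D9 {g : G} : g ∈ d.D9 ↔ ∃ i < 3, ∃ j < 3, g = d.z ^ i * d.z' ^ j := by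
  constructor
  · rintro ⟨k, hk, rfl⟩
    obtain ⟨i, hi, j, hj, rfl⟩ := D9_cases
      (Subgroup.mem_centralizer_iff.1 hk kz (Or.inl rfl)).symm
      (Subgroup.mem_centralizer_iff.1 hk kz' (Or.inr rfl)).symm
    exact ⟨i, hi, j, hj, by rw [map_mul, map_pow, map_pow]; rfl⟩
  · rintro ⟨i, -, j, -, rfl⟩
    refine ⟨kz ^ i * kz' ^ j, Subgroup.mem_centralizer_iff.2 ?_, by
      rw [map_mul, map_pow, map_pow]; rfl⟩
    have hc : Commute kz kz' := kz_z'
    rintro x (rfl | rfl)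
    · exact (((Commute.refl kz).pow_right i).mul_right (hc.pow_right j)).eq
    · exact ((hc.symm.pow_right i).mul_right ((Commute.refl kz').pow_right j)).eq

theorem z_mem_D9 : d.z ∈ d.D9 := d.mem_D9.2 ⟨1, by norm_num, 0, by norm_num, by simp⟩

theorem z'_mem_D9 : d.z' ∈ d.D9 := d.mem_D9.2 ⟨0, by norm_num, 1, by norm_num, by simp⟩

instance D9_comm : IsMulCommutative d.D9 := by
  refine ⟨⟨fun a b => Subtype.ext ?_⟩⟩
  obtain ⟨i, -, j, -, ha⟩ := d.mem_D9.1 a.2
  obtain ⟨i', -, j', -, hb⟩ := d.mem_D9.1 b.2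
  show (a : G) * b = b * a
  rw [ha, hb]
  exact ((((Commute.refl d.z).pow_pow i i').mul_right (d.z_z'.pow_pow i j')).mul_left
    ((d.z_z'.symm.pow_pow j i').mul_right ((Commute.refl d.z').pow_pow j j'))).eq

theorem D9_cube {g : G} (h : g ∈ d.D9) : g ^ 3 = 1 := by
  obtain ⟨i, -, j, -, rfl⟩ := d.mem_D9.1 h
  rw [(d.z_z'.pow_pow i j).mul_pow, ← pow_mul, ← pow_mul, mul_comm i, mul_comm j, pow_mul,
    pow_mul, d.z_cube, d.z'_cube, one_pow, one_pow, one_mul]

theorem card_D9 : Nat.card d.D9 = 9 := by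
  have e : Fin 3 × Fin 3 → d.D9 := fun p =>
    ⟨d.z ^ (p.1 : ℕ) * d.z' ^ (p.2 : ℕ), d.mem_D9.2 ⟨_, p.1.2, _, p.2.2, rfl⟩⟩
  have hb : Function.Bijective fun p : Fin 3 × Fin 3 =>
      (⟨d.z ^ (p.1 : ℕ) * d.z' ^ (p.2 : ℕ), d.mem_D9.2 ⟨_, p.1.2, _, p.2.2, rfl⟩⟩ : d.D9) := by
    constructor
    · intro p p' h
      have h' := congrArg Subtype.val h
      simp only [z, z', ← map_pow, ← map_mul] at h'
      have key : ∀ p p' : Fin 3 × Fin 3,
          kz ^ (p.1 : ℕ) * kz' ^ (p.2 : ℕ) = kz ^ (p'.1 : ℕ) * kz' ^ (p'.2 : ℕ) → p = p' := by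
        decide +kernel
      exact key p p' (d.inj h')
    · rintro ⟨g, hg⟩
      obtain ⟨i, hi, j, hj, rfl⟩ := d.mem_D9.1 hg
      exact ⟨(⟨i, hi⟩, ⟨j, hj⟩), rfl⟩
  rw [← Nat.card_eq_of_bijective _ hb, Nat.card_prod, Nat.card_fin]

/-- The centralisers of the diagonal elements. -/
theorem card_diag {i j : ℕ} (hi : i < 3) (hj : j < 3) (hi0 : i ≠ 0) (hj0 : j ≠ 0) :
    Nat.card (Subgroup.centralizer ({d.z ^ i * d.z' ^ j} : Set G)) = 18 := by
  have h11 : Nat.card (Subgroup.centralizer ({d.z * d.z'} : Set G)) = 18 := d.card_y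
  have hinv : ∀ x : G, Subgroup.centralizer ({x⁻¹} : Set G) = Subgroup.centralizer ({x} : Set G) :=
    fun x => by
      ext g
      rw [Subgroup.mem_centralizer_singleton_iff, Subgroup.mem_centralizer_singleton_iff]
      exact ⟨fun h => by simpa using ((show Commute g x⁻¹ from h).inv_right).eq,
        fun h => ((show Commute g x from h).inv_right).eq⟩
  have e2 : d.z ^ 2 = d.z⁻¹ := eq_inv_of_mul_eq_one_left (by rw [← pow_succ, d.z_cube])
  have e2' : d.z' ^ 2 = d.z'⁻¹ := eq_inv_of_mul_eq_one_left (by rw [← pow_succ, d.z'_cube])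
  have h21 : Nat.card (Subgroup.centralizer ({d.z⁻¹ * d.z'} : Set G)) = 18 := by
    rw [show d.z⁻¹ * d.z' = d.ψ kb * (d.z * d.z') * (d.ψ kb)⁻¹ by
      rw [z, z', ← map_inv, ← map_inv, ← map_mul, ← map_mul, ← map_mul, ← map_mul]
      exact congrArg d.ψ (by decide +kernel), SymEight.card_centralizer_conj, h11]
  interval_cases i <;> interval_cases j
  · exact absurd rfl hi0
  · exact absurd rfl hi0
  · exact absurd rfl hi0
  · exact absurd rfl hj0
  · simpa using h11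
  · rw [pow_one, e2', show d.z * d.z'⁻¹ = (d.z⁻¹ * d.z')⁻¹ by
      rw [mul_inv_rev, inv_inv, ((d.z_z'.inv_right)).eq], hinv, h21]
  · exact absurd rfl hj0
  · rw [pow_one, e2, h21]
  · rw [e2, e2', ← mul_inv_rev, ← d.z_z'.eq, hinv, h11]

section Fin

variable [Finite G]

theorem five_dvd_z : 5 ∣ Nat.card (Subgroup.centralizer ({d.z} : Set G)) := by
  have h : d.ψ kf ∈ Subgroup.centralizer ({d.z} : Set G) :=
    Subgroup.mem_centralizer_singleton_iff.2 ((show Commute kf kz from kf_z).map d.ψ).eq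
  have := orderOf_dvd_natCard (⟨_, h⟩ : Subgroup.centralizer ({d.z} : Set G))
  rwa [Subgroup.orderOf_mk, orderOf_injective _ d.inj, kf_order] at this

include d in
theorem not_nine_dvd {u : G} (hu : u * u = 1) (hu1 : u ≠ 1) :
    ¬ 3 ^ (1 + 1) ∣ Nat.card (Subgroup.centralizer ({u} : Set G)) := by
  intro h
  have : Fact (Nat.Prime 3) := ⟨Nat.prime_three⟩
  obtain ⟨Q, hQ⟩ := Sylow.exists_subgroup_card_pow_prime 3 h
  set Q' := Q.map (Subgroup.centralizer ({u} : Set G)).subtype with hQ'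
  have hQc : Nat.card Q' = 3 ^ 2 := by
    rw [hQ', Subgroup.card_map_of_injective (Subgroup.subtype_injective _), hQ]
  have syl : ∀ J : Subgroup G, Nat.card J = 3 ^ 2 → ∃ P : Sylow 3 G, (P : Subgroup G) = J := by
    intro J hJ
    have hi : ¬ 3 ∣ J.index := by
      intro h3
      apply d.not27
      rw [← J.card_mul_index, hJ, pow_succ]
      exact mul_dvd_mul_left _ h3
    exact ⟨(IsPGroup.of_card hJ).toSylow hi, rfl⟩
  obtain ⟨P, hP⟩ := syl Q' hQc
  obtain ⟨R, hR⟩ := syl d.D9 (by rw [d.card_D9]; norm_num)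
  obtain ⟨k, hk⟩ := MulAction.exists_smul_eq G P R
  have hc : ∀ x ∈ d.D9, Commute (k * u * k⁻¹) x := by
    intro x hx
    rw [← hR, ← hk, Sylow.coe_subgroup_smul, hP] at hx
    obtain ⟨w, hw, rfl⟩ := hx
    obtain ⟨⟨w', hw'⟩, -, rfl⟩ := hw
    show Commute (k * u * k⁻¹) (k * w' * k⁻¹)
    exact ((show Commute w' u from Subgroup.mem_centralizer_singleton_iff.1 hw').symm).map
      (MulAut.conj k)
  have h3 := d.cent_D _ (hc _ d.z_mem_D9) (hc _ d.z'_mem_D9)
  rw [conj_pow, conj_eq_one_iff, pow_succ, pow_two, hu, one_mul] at h3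
  exact hu1 h3

include d in
/-- Conjugate involutions centralise conjugate subgroups of order three. -/
theorem card_eq_of_conj {u v g x x' : G} (hv : v * v = 1) (hv1 : v ≠ 1) (hg : g * u * g⁻¹ = v)
    (hxu : Commute x u) (hxv : Commute x' v) (hx : orderOf x = 3) (hx' : orderOf x' = 3) :
    Nat.card (Subgroup.centralizer ({x} : Set G)) =
      Nat.card (Subgroup.centralizer ({x'} : Set G)) := by
  have : Fact (Nat.Prime 3) := ⟨Nat.prime_three⟩
  set C := Subgroup.centralizer ({v} : Set G) with hC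
  have hy : g * x * g⁻¹ ∈ C := Subgroup.mem_centralizer_singleton_iff.2
    (hg ▸ (hxu.map (MulAut.conj g)).eq)
  have hx'C : x' ∈ C := Subgroup.mem_centralizer_singleton_iff.2 hxv.eq
  have hoy : orderOf (g * x * g⁻¹) = 3 := by rw [← MulAut.conj_apply, MulEquiv.orderOf_eq, hx]
  have hpow : ∀ w : C, orderOf w = 3 → ∃ P : Sylow 3 C, (P : Subgroup C) = Subgroup.zpowers w := by
    intro w hw
    have hc3 : Nat.card (Subgroup.zpowers w) = 3 ^ 1 := by rw [Nat.card_zpowers, hw, pow_one]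
    have hi : ¬ 3 ∣ (Subgroup.zpowers w).index := by
      intro h3
      apply d.not_nine_dvd hv hv1
      rw [← hC, ← (Subgroup.zpowers w).card_mul_index, hc3, pow_succ]
      exact mul_dvd_mul_left _ h3
    exact ⟨(IsPGroup.of_card hc3).toSylow hi, rfl⟩
  obtain ⟨P, hP⟩ := hpow ⟨_, hy⟩ (by rw [Subgroup.orderOf_mk, hoy])
  obtain ⟨R, hR⟩ := hpow ⟨x', hx'C⟩ (by rw [Subgroup.orderOf_mk, hx'])
  obtain ⟨k, hk⟩ := MulAction.exists_smul_eq C P R
  set w := (k : G) * (g * x * g⁻¹) * (k : G)⁻¹ with hw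
  have hmem : k * (⟨_, hy⟩ : C) * k⁻¹ ∈ Subgroup.zpowers (⟨x', hx'C⟩ : C) := by
    rw [← hR, ← hk, Sylow.coe_subgroup_smul, hP]
    exact ⟨_, Subgroup.mem_zpowers _, by simp⟩
  obtain ⟨n, hn⟩ := hmem
  have hn' : x' ^ n = w := by simpa [hw] using congrArg Subtype.val hn
  have how : orderOf w = 3 := by rw [hw, ← MulAut.conj_apply, MulEquiv.orderOf_eq, hoy]
  have hzeq : Subgroup.zpowers w = Subgroup.zpowers x' :=
    Subgroup.eq_of_le_of_card_ge (Subgroup.zpowers_le.2 ⟨n, hn'⟩)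
      (by rw [Nat.card_zpowers, Nat.card_zpowers, how, hx'])
  have hcent : Subgroup.centralizer ({w} : Set G) = Subgroup.centralizer ({x'} : Set G) := by
    ext e
    rw [Subgroup.mem_centralizer_singleton_iff, Subgroup.mem_centralizer_singleton_iff]
    constructor
    · intro he
      obtain ⟨i, hi⟩ : x' ∈ Subgroup.zpowers w := hzeq ▸ Subgroup.mem_zpowers x'
      rw [← hi]
      exact (Commute.zpow_right he i : Commute e (w ^ i)).eq
    · intro he
      rw [← hn']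
      exact (Commute.zpow_right he n : Commute e (x' ^ n)).eq
  rw [← hcent, hw, SymEight.card_centralizer_conj, SymEight.card_centralizer_conj]

/-- `q` is not fused to `a`. -/
theorem q_not_a (g : G) : g * d.ψ ka * g⁻¹ ≠ d.q := by
  intro h
  have hq1 : d.q ≠ 1 := by
    intro hq
    have := d.q_z
    rw [hq, one_mul, mul_one] at this
    exact absurd (d.inj this) (by decide +kernel)
  have : Fact (Nat.Prime 3) := ⟨Nat.prime_three⟩
  have hy : Commute (d.z * d.z') d.q := by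
    have e : d.q * (d.z * d.z') * d.q = d.z * d.z' := by
      calc d.q * (d.z * d.z') * d.q = d.q * d.z * (1 * d.z') * d.q := by group
        _ = d.q * d.z * ((d.q * d.q) * d.z') * d.q := by rw [d.q_sq]
        _ = (d.q * d.z * d.q) * (d.q * d.z' * d.q) := by group
        _ = d.z * d.z' := by rw [d.qzq, d.qz'q, d.z_z'.eq]
    show d.z * d.z' * d.q = d.q * (d.z * d.z')
    calc d.z * d.z' * d.q = d.q * (d.z * d.z') * d.q * d.q := by rw [e]
      _ = d.q * (d.z * d.z') := by rw [mul_assoc (d.q * _), d.q_sq, mul_one]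
  have hoy : orderOf (d.z * d.z') = 3 := by
    refine orderOf_eq_prime ?_ ?_
    · rw [d.z_z'.mul_pow, d.z_cube, d.z'_cube, one_mul]
    · intro h1
      rw [z, z', ← map_mul] at h1
      exact absurd (d.inj (h1.trans (map_one _).symm)) (by decide +kernel)
  have h18 := d.card_eq_of_conj d.q_sq hq1 h ((show Commute kz ka from ka_z.symm).map d.ψ) hy
    d.z_order hoy
  have h5 := d.five_dvd_z
  rw [show Nat.card (Subgroup.centralizer ({d.z} : Set G)) =
    Nat.card (Subgroup.centralizer ({d.z * d.z'} : Set G)) from h18, z, z', d.card_y] at h5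
  norm_num at h5

omit [Finite G] in
theorem mem_of_cent_z {M : Subgroup G} (hψ : d.ψ.range ≤ M) {g : G} (h : Commute g d.z) :
    g ∈ M := by
  obtain ⟨i, σ, hσ, rfl⟩ := d.cz h
  exact hψ ⟨_, rfl⟩

/-- The centraliser of the four group. -/
theorem cent_V_le (M : Subgroup G) (hψ : d.ψ.range ≤ M)
    (hf : ∀ j, Commute d.v (d.f j) → d.f j ∈ M) {g : G} (hg : Commute g d.v)
    (hg' : Commute g d.v') : g ∈ M := by
  have : Fact (Nat.Prime 3) := ⟨Nat.prime_three⟩
  set R := Subgroup.centralizer ({d.v, d.v'} : Set G) with hR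
  have memR : ∀ x, x ∈ R ↔ Commute x d.v ∧ Commute x d.v' := by
    intro x
    rw [hR, Subgroup.mem_centralizer_iff]
    refine ⟨fun h => ⟨(h _ (Or.inl rfl)).symm, (h _ (Or.inr rfl)).symm⟩, ?_⟩
    rintro ⟨h1, h2⟩ y (rfl | rfl)
    · exact h1.eq.symm
    · exact h2.eq.symm
  have hzR : d.z ∈ R := (memR _).2
    ⟨(show Commute kz kv from kz_kv).map d.ψ, (show Commute kz kv' from kz_kv').map d.ψ⟩
  have hv2 : d.v * d.v = 1 := by rw [v, ← map_mul, kv_sq, map_one]
  have hv1 : d.v ≠ 1 := fun h => kv_ne (d.inj (h.trans (map_one _).symm))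
  have hR9 : ¬ 3 ^ (1 + 1) ∣ Nat.card R := fun h => d.not_nine_dvd hv2 hv1
    (h.trans (Subgroup.card_dvd_of_le (Subgroup.centralizer_le (by simp))))
  have hCRz : ∀ x ∈ R, Commute x d.z → x ∈ d.ψ.range := fun x _ hc =>
    d.norm x (Or.inl (mul_inv_eq_iff_eq_mul.2 hc.eq))
  set zR : R := ⟨d.z, hzR⟩ with hzR'
  obtain ⟨W₀, -, hWn, hW3, hsup⟩ := SymEight.exists_complement (G := R) (p := 3) (n := 1)
    (S := ⊤) (Q := Subgroup.zpowers zR) le_top
    (by rw [Nat.card_zpowers, hzR', Subgroup.orderOf_mk, d.z_order]; rfl) hR9 (by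
      intro k _ hk x hx
      obtain ⟨n, rfl⟩ := hx
      suffices Commute (k : G) d.z from
        (show Commute k zR from Subtype.ext this.eq).zpow_right n
      have h1 : k * zR * k⁻¹ ∈ Subgroup.zpowers zR :=
        (Subgroup.mem_normalizer_iff.1 hk zR).1 (Subgroup.mem_zpowers _)
      obtain ⟨m, hm⟩ := (isOfFinOrder_of_finite zR).mem_powers_iff_mem_zpowers.2 h1
      have hm' : (k : G) * d.z * (k : G)⁻¹ = d.z ^ m := (congrArg Subtype.val hm).symm
      rw [pow_eq_pow_mod m d.z_cube] at hm'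
      have : m % 3 = 0 ∨ m % 3 = 1 ∨ m % 3 = 2 := by omega
      rcases this with e | e | e <;> rw [e] at hm'
      · exact absurd (conj_eq_one_iff.1 (hm'.trans (pow_zero _))) d.z_ne
      · exact mul_inv_eq_iff_eq_mul.1 (hm'.trans (pow_one _))
      · exfalso
        have e2 : d.z ^ 2 = d.z⁻¹ := eq_inv_of_mul_eq_one_left (by rw [← pow_succ, d.z_cube])
        obtain ⟨⟨⟨w, σ⟩, hmem⟩, hwσ⟩ := d.norm k (Or.inr (hm'.trans e2))
        obtain ⟨h1, h2⟩ := (memR _).1 k.2
        rw [← hwσ] at h1 h2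
        have e1 := d.inj (show d.ψ (⟨(w, σ), hmem⟩ * kv) = d.ψ (kv * ⟨(w, σ), hmem⟩) by
          rw [map_mul, map_mul]; exact h1.eq)
        have e2' := d.inj (show d.ψ (⟨(w, σ), hmem⟩ * kv') = d.ψ (kv' * ⟨(w, σ), hmem⟩) by
          rw [map_mul, map_mul]; exact h2.eq)
        rw [e2, ← hwσ, z, ← map_inv d.ψ, ← map_inv d.ψ, ← map_mul d.ψ, ← map_mul d.ψ] at hm'
        have e3 := congrArg (fun k : K => (k : Perm (Fin 3) × Perm (Fin 5)).1) (d.inj hm')
        have key : ∀ w : Perm (Fin 3), ∀ σ : Perm (Fin 5), Perm.sign w * Perm.sign σ = 1 →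
            w * u3 * w⁻¹ = u3⁻¹ → σ * f5' false = f5' false * σ →
            σ * (t5 * f5' false * t5⁻¹) = t5 * f5' false * t5⁻¹ * σ → False := by
          decide +kernel
        exact key w σ (mem_K.1 hmem) e3
          (congrArg (fun k : K => (k : Perm (Fin 3) × Perm (Fin 5)).2) e1)
          (congrArg (fun k : K => (k : Perm (Fin 3) × Perm (Fin 5)).2) e2'))
  have hW0n : W₀.Normal := ⟨fun x hx k =>
    (Subgroup.mem_normalizer_iff.1 (hWn (Subgroup.mem_top k)) x).1 hx⟩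
  set W := W₀.map R.subtype with hW
  have hWc : Nat.card W = Nat.card W₀ := Subgroup.card_map_of_injective R.subtype_injective
  have hcop : (Nat.card W).Coprime 3 :=
    ((Nat.prime_three.coprime_iff_not_dvd).2 (hWc ▸ hW3)).symm
  have hWR : W ≤ R := Subgroup.map_subtype_le _
  have hchar : ∀ x ∈ R, x ^ Nat.card W = 1 → x ∈ W := by
    intro x hx hxp
    set π := QuotientGroup.mk' W₀ with hπ
    have h0 : (π ⟨x, hx⟩) ^ Nat.card W = 1 := by
      rw [← map_pow, show (⟨x, hx⟩ : R) ^ Nat.card W = 1 from Subtype.ext hxp, map_one]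
    have h3 : (π ⟨x, hx⟩) ^ 3 = 1 := by
      obtain ⟨w, hw, e, he, hwe⟩ := Subgroup.mem_sup_of_normal_left.1
        (hsup (Subgroup.mem_top (⟨x, hx⟩ : R)))
      rw [← hwe, map_mul, show π w = 1 from (QuotientGroup.eq_one_iff w).2 hw, one_mul, ← map_pow]
      obtain ⟨n, rfl⟩ := he
      rw [← zpow_natCast, ← zpow_mul, mul_comm, zpow_mul, zpow_natCast,
        show zR ^ 3 = 1 from Subtype.ext d.z_cube, one_zpow, map_one]
    have h1 : π ⟨x, hx⟩ = 1 := orderOf_eq_one_iff.1 (Nat.eq_one_of_dvd_coprimes hcop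
      (orderOf_dvd_of_pow_eq_one h0) (orderOf_dvd_of_pow_eq_one h3))
    exact ⟨⟨x, hx⟩, (QuotientGroup.eq_one_iff _).1 h1, rfl⟩
  have hWpow : ∀ x ∈ W, x ^ Nat.card W = 1 := fun x hx =>
    congrArg Subtype.val (pow_card_eq_one' (x := (⟨x, hx⟩ : W)))
  have hnormW : ∀ k : G, (∀ x ∈ R, k * x * k⁻¹ ∈ R) → ∀ x ∈ W, k * x * k⁻¹ ∈ W :=
    fun k hk x hx => hchar _ (hk x (hWR hx)) (by rw [conj_pow, hWpow x hx]; group)
  have hz'R : ∀ x ∈ R, d.z' * x * d.z'⁻¹ ∈ R ∧ d.z'⁻¹ * x * d.z' ∈ R := by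
    intro x hx
    obtain ⟨h1, h2⟩ := (memR x).1 hx
    have e1 : d.z' * d.v * d.z'⁻¹ = d.v' := by
      rw [z', v, ← map_inv, ← map_mul, ← map_mul, kz'_kv]; rfl
    have e2 : d.z' * d.v' * d.z'⁻¹ = d.v * d.v' := by
      rw [z', v', v, ← map_inv, ← map_mul, ← map_mul, ← map_mul, kz'_kv']
    have e3 : d.z'⁻¹ * d.v * d.z' = d.v * d.v' := by
      rw [z', v, v', ← map_inv, ← map_mul, ← map_mul, ← map_mul, kz'_kv_inv]
    have e4 : d.z'⁻¹ * d.v' * d.z' = d.v := by
      rw [z', v', v, ← map_inv, ← map_mul, ← map_mul, kz'_kv'_inv]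
    have hm := h1.mul_right h2
    have c1 : ∀ u, Commute x (d.z'⁻¹ * u * d.z') → Commute (d.z' * x * d.z'⁻¹) u := fun u hu => by
      have := hu.map (MulAut.conj d.z').toMonoidHom
      simpa [mul_assoc] using this
    have c2 : ∀ u, Commute x (d.z' * u * d.z'⁻¹) → Commute (d.z'⁻¹ * x * d.z') u := fun u hu => by
      have := hu.map (MulAut.conj d.z'⁻¹).toMonoidHom
      simpa [mul_assoc] using this
    exact ⟨(memR _).2 ⟨c1 _ (e3 ▸ hm), c1 _ (e4 ▸ h1)⟩,
      (memR _).2 ⟨c2 _ (e1 ▸ h2), c2 _ (e2 ▸ hm)⟩⟩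
  have hzW : ∀ x ∈ W, d.z * x * d.z⁻¹ ∈ W :=
    hnormW _ (fun x hx => mul_mem (mul_mem hzR hx) (inv_mem hzR))
  have hDN : d.D9 ≤ Subgroup.normalizer (W : Set G) := by
    have h1 : d.z ∈ Subgroup.normalizer (W : Set G) := Subgroup.mem_normalizer_iff.2 fun x =>
      ⟨hzW x, fun h => by
        have := hnormW d.z⁻¹ (fun x hx => mul_mem (mul_mem (inv_mem hzR) hx)
          (inv_mem (inv_mem hzR))) _ h
        simpa [mul_assoc] using this⟩
    have h2 : d.z' ∈ Subgroup.normalizer (W : Set G) := Subgroup.mem_normalizer_iff.2 fun x =>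
      ⟨hnormW _ (fun x hx => (hz'R x hx).1) x, fun h => by
        have := hnormW d.z'⁻¹ (fun x hx => by simpa using (hz'R x hx).2) _ h
        simpa [mul_assoc] using this⟩
    intro x hx
    obtain ⟨i, -, j, -, rfl⟩ := d.mem_D9.1 hx
    exact mul_mem (pow_mem h1 i) (pow_mem h2 j)
  have hnc : ¬ IsCyclic d.D9 := by
    intro hc
    obtain ⟨x, hx⟩ := isCyclic_iff_exists_orderOf_eq_natCard.1 hc
    have h3 : orderOf x ∣ 3 := orderOf_dvd_of_pow_eq_one (Subtype.ext (d.D9_cube x.2))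
    rw [hx, d.card_D9] at h3
    norm_num at h3
  -- the part centralised by `z'`
  have hS : ∀ x ∈ W, Commute x d.z' → x ∈ M := by
    intro x hx hxc
    have hform : ∀ y ∈ W, Commute y d.z' → ∃ σ, ∃ hσ : Perm.sign σ = 1,
        y = d.q * d.ψ (kk 1 σ (by rw [hσ]; simp)) * d.q ∧ σ ^ Nat.card W = 1 := by
      intro y hy hyc
      obtain ⟨i, σ, hσ, rfl⟩ := d.cz' hyc
      have h1 : (kz ^ i * kk 1 σ (by rw [hσ]; simp)) ^ Nat.card W = 1 := by
        apply d.inj
        have h2 := hWpow _ hy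
        nth_rw 2 [← d.q_inv] at h2
        rw [conj_pow, conj_eq_one_iff] at h2
        rw [map_pow, h2, map_one]
      have h1' := congrArg (fun k : K => (k : Perm (Fin 3) × Perm (Fin 5))) h1
      simp [kz, kk, Prod.pow_mk] at h1'
      have hu : u3 ^ i = 1 := by
        have h3 : (u3 ^ i) ^ 3 = 1 := by rw [← pow_mul, mul_comm, pow_mul, u3_pow_three, one_pow]
        exact orderOf_eq_one_iff.1 (Nat.eq_one_of_dvd_coprimes hcop
          (orderOf_dvd_of_pow_eq_one h1'.1) (orderOf_dvd_of_pow_eq_one h3))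
      refine ⟨σ, hσ, ?_, h1'.2⟩
      rw [show kz ^ i * kk 1 σ (by rw [hσ]; simp) = kk 1 σ (by rw [hσ]; simp) from
        Subtype.ext (by simp [kz, kk, hu])]
    have hconjz : ∀ y : G, Commute y d.z' → Commute (d.z * y * d.z⁻¹) d.z' ∧
        Commute (d.z⁻¹ * y * d.z) d.z' := fun y hy =>
      ⟨(d.z_z'.mul_left hy).mul_left d.z_z'.inv_left,
        (d.z_z'.inv_left.mul_left hy).mul_left d.z_z'⟩
    obtain ⟨σ, hσ, hxe, hσW⟩ := hform x hx hxc
    have hzqc : d.q * d.z' = d.z * d.q := by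
      rw [← d.qz'q, show d.q * d.z' * d.q * d.q = d.q * d.z' * (d.q * d.q) by group, d.q_sq,
        mul_one]
    have hconjσ : ∀ (τ : Perm (Fin 5)) (hτ : Perm.sign τ = 1),
        d.z * (d.q * d.ψ (kk 1 τ (by rw [hτ]; simp)) * d.q) * d.z⁻¹ =
          d.q * d.ψ (kk 1 (t5 * τ * t5⁻¹) (by simp [hτ])) * d.q ∧
        d.z⁻¹ * (d.q * d.ψ (kk 1 τ (by rw [hτ]; simp)) * d.q) * d.z =
          d.q * d.ψ (kk 1 (t5⁻¹ * τ * t5) (by simp [hτ])) * d.q := by
      intro τ hτ
      have e : ∀ p : G, d.z * (d.q * p * d.q) * d.z⁻¹ = d.q * (d.z' * p * d.z'⁻¹) * d.q ∧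
          d.z⁻¹ * (d.q * p * d.q) * d.z = d.q * (d.z'⁻¹ * p * d.z') * d.q := by
        intro p
        have hzi : d.z⁻¹ = d.q * d.z'⁻¹ * d.q := by
          rw [← d.qz'q, mul_inv_rev, mul_inv_rev, d.q_inv, mul_assoc]
        have hq2 : ∀ a : G, d.q * (d.q * a) = a := fun a => by
          rw [← mul_assoc, d.q_sq, one_mul]
        rw [hzi, ← d.qz'q]
        constructor <;> simp [mul_assoc, hq2]
      obtain ⟨e1, e2⟩ := e (d.ψ (kk 1 τ (by rw [hτ]; simp)))
      rw [e1, e2, z', ← map_inv d.ψ, ← map_mul d.ψ, ← map_mul d.ψ, ← map_mul d.ψ, ← map_mul d.ψ]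
      exact ⟨congrArg (fun k : K => d.q * d.ψ k * d.q) (Subtype.ext (by simp [kz', kk])),
        congrArg (fun k : K => d.q * d.ψ k * d.q) (Subtype.ext (by simp [kz', kk]))⟩
    have hprod : ∀ (τ τ' : Perm (Fin 5)) (hτ : Perm.sign τ = 1) (hτ' : Perm.sign τ' = 1),
        d.q * d.ψ (kk 1 (τ * τ') (by simp [hτ, hτ'])) * d.q =
          d.q * d.ψ (kk 1 τ (by rw [hτ]; simp)) * d.q *
            (d.q * d.ψ (kk 1 τ' (by rw [hτ']; simp)) * d.q) := by
      intro τ τ' hτ hτ'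
      have e : ∀ p p' : G, d.q * p * d.q * (d.q * p' * d.q) = d.q * (p * p') * d.q := fun p p' => by
        calc d.q * p * d.q * (d.q * p' * d.q) = d.q * p * (d.q * d.q) * p' * d.q := by group
          _ = _ := by rw [d.q_sq]; group
      rw [e, ← map_mul d.ψ]
      exact congrArg (fun k : K => d.q * d.ψ k * d.q) (Subtype.ext (by simp [kk]))
    -- the set of admissible `τ`
    let good : Perm (Fin 5) → Prop := fun τ => ∃ hτ : Perm.sign τ = 1,
      d.q * d.ψ (kk 1 τ (by rw [hτ]; simp)) * d.q ∈ W ∧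
        Commute (d.q * d.ψ (kk 1 τ (by rw [hτ]; simp)) * d.q) d.z'
    have gmul : ∀ τ τ', good τ → good τ' → good (τ * τ') := by
      rintro τ τ' ⟨hτ, h1, h2⟩ ⟨hτ', h1', h2'⟩
      refine ⟨by simp [hτ, hτ'], ?_, ?_⟩
      · rw [hprod τ τ' hτ hτ']; exact mul_mem h1 h1'
      · rw [hprod τ τ' hτ hτ']; exact h2.mul_left h2'
    have gconj : ∀ τ, good τ → good (t5 * τ * t5⁻¹) ∧ good (t5⁻¹ * τ * t5) := by
      rintro τ ⟨hτ, h1, h2⟩
      refine ⟨⟨by simp [hτ], ?_, ?_⟩, ⟨by simp [hτ], ?_, ?_⟩⟩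
      · rw [← (hconjσ τ hτ).1]; exact hzW _ h1
      · rw [← (hconjσ τ hτ).1]; exact (hconjz _ h2).1
      · rw [← (hconjσ τ hτ).2]
        exact (Subgroup.mem_normalizer_iff.1 (hDN (inv_mem d.z_mem_D9)) _).1 h1 |>
          (by simpa using ·)
      · rw [← (hconjσ τ hτ).2]; exact (hconjz _ h2).2
    have gord : ∀ τ, good τ → τ ^ 3 = 1 → τ = 1 := by
      rintro τ ⟨hτ, h1, -⟩ h3
      have h2 := hWpow _ h1
      nth_rw 2 [← d.q_inv] at h2
      rw [conj_pow, conj_eq_one_iff, ← map_pow] at h2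
      have h4 := congrArg (fun k : K => (k : Perm (Fin 3) × Perm (Fin 5)).2)
        (d.inj (h2.trans (map_one _).symm))
      exact orderOf_eq_one_iff.1 (Nat.eq_one_of_dvd_coprimes hcop
        (orderOf_dvd_of_pow_eq_one (by simpa [kk] using h4)) (orderOf_dvd_of_pow_eq_one h3))
    have gσ : good σ := ⟨hσ, hxe ▸ hx, hxe ▸ hxc⟩
    have hall : ((words σ).all fun w => decide (w ^ 3 = 1 → w = 1)) = true := by
      obtain ⟨ga, gb⟩ := gconj σ gσ
      simp only [words, List.all_eq_true, decide_eq_true_eq, List.mem_cons, List.not_mem_nil,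
        or_false]
      rintro w (rfl | rfl | rfl | rfl)
      · exact gord _ gσ
      · exact gord _ (gmul _ _ gσ ga)
      · exact gord _ (gmul _ _ (gmul _ _ gσ gσ) ga)
      · exact gord _ (gmul _ _ (gmul _ _ gσ ga) (gmul _ _ gσ gb))
    obtain ⟨j, hj⟩ : ∃ j, Vset j σ := by
      rcases invariant_three' σ hσ hall with h | h
      · exact ⟨_, h⟩
      · exact ⟨_, h⟩
    by_cases hσ1 : σ = 1
    · subst hσ1
      rw [hxe, show kk 1 (1 : Perm (Fin 5)) _ = (1 : K) from rfl, map_one, mul_one, d.q_sq]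
      exact one_mem _
    have hzM : d.z ∈ M := hψ ⟨_, rfl⟩
    have hvz : Commute d.v d.z := ((memR _).1 hzR).1.symm
    have hxv : Commute d.v x := ((memR _).1 (hWR hx)).1.symm
    have hfs : Perm.sign (f5' j) = 1 := by cases j <;> decide
    have hfe : d.f j = d.q * d.ψ (kk 1 (f5' j) (by rw [hfs]; simp)) * d.q := rfl
    rcases hj with rfl | rfl | rfl | rfl
    · exact absurd rfl hσ1
    · rw [hxe, ← hfe]
      exact hf j (by rw [hfe, ← hxe]; exact hxv)
    · rw [← (hconjσ _ hfs).1, ← hfe] at hxe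
      have : Commute d.v (d.f j) := by
        have e : d.f j = d.z⁻¹ * x * d.z := by rw [hxe]; group
        rw [e]
        exact (hvz.inv_right.mul_right hxv).mul_right hvz
      rw [hxe]
      exact mul_mem (mul_mem hzM (hf j this)) (inv_mem hzM)
    · rw [← (hconjσ _ hfs).2, ← hfe] at hxe
      have : Commute d.v (d.f j) := by
        have e : d.f j = d.z * x * d.z⁻¹ := by rw [hxe]; group
        rw [e]
        exact (hvz.mul_right hxv).mul_right hvz.inv_right
      rw [hxe]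
      exact mul_mem (mul_mem (inv_mem hzM) (hf j this)) hzM
  have hWM : W ≤ M := by
    refine H20.le_of_centralizers_le hnc hDN (by
      rw [d.card_D9]; exact Nat.Coprime.pow_left 2 hcop.symm) fun a ha ha1 x hx => ?_
    obtain ⟨hxW, hxa⟩ := Subgroup.mem_inf.1 hx
    have hxa' : Commute x a := Subgroup.mem_centralizer_singleton_iff.1 hxa
    obtain ⟨i, hi, j, hj, rfl⟩ := d.mem_D9.1 ha
    have hdiag : i ≠ 0 → j ≠ 0 → x ∈ M := by
      intro hi0 hj0
      have h2 : ∀ y ∈ W, Commute y (d.z ^ i * d.z' ^ j) → y * y = 1 := by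
        intro y hy hyc
        have h18 := orderOf_dvd_natCard
          (⟨y, Subgroup.mem_centralizer_singleton_iff.2 hyc.eq⟩ :
            Subgroup.centralizer ({d.z ^ i * d.z' ^ j} : Set G))
        rw [Subgroup.orderOf_mk, d.card_diag hi hj hi0 hj0] at h18
        have hW' := orderOf_dvd_of_pow_eq_one (hWpow y hy)
        have h2 : orderOf y ∣ 2 := by
          have hc9 : (orderOf y).Coprime 9 :=
            (Nat.Coprime.coprime_dvd_left hW' hcop).pow_right 2
          exact hc9.dvd_of_dvd_mul_right (by simpa using h18)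
        rw [← pow_two]
        exact orderOf_dvd_iff_pow_eq_one.1 h2
      have hset : ∀ y ∈ W, ∀ y' ∈ W, Commute y (d.z ^ i * d.z' ^ j) →
          Commute y' (d.z ^ i * d.z' ^ j) → y ≠ 1 → y' ≠ 1 → y = y' := by
        intro y hy y' hy' hyc hyc' h1 h1'
        set C := Subgroup.centralizer ({d.z ^ i * d.z' ^ j} : Set G) ⊓ W with hC
        have hCc : Nat.card C ∣ 2 := by
          have a1 : Nat.card C ∣ 18 := d.card_diag hi hj hi0 hj0 ▸
            Subgroup.card_dvd_of_le (inf_le_left : C ≤ _)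
          have a2 : Nat.card C ∣ Nat.card W := Subgroup.card_dvd_of_le inf_le_right
          exact ((Nat.Coprime.coprime_dvd_left a2 hcop).pow_right 2).dvd_of_dvd_mul_right
            (by simpa using a1)
        have hle : Nat.card C ≤ 2 := Nat.le_of_dvd (by norm_num) hCc
        by_contra hne
        have : 3 ≤ Nat.card C := by
          have := Fintype.ofFinite C
          rw [Nat.card_eq_fintype_card]
          refine Fintype.two_lt_card_iff.2 ⟨1, ⟨y, ?_⟩, ⟨y', ?_⟩, ?_, ?_, ?_⟩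
          · exact Subgroup.mem_inf.2 ⟨Subgroup.mem_centralizer_singleton_iff.2 hyc.eq, hy⟩
          · exact Subgroup.mem_inf.2 ⟨Subgroup.mem_centralizer_singleton_iff.2 hyc'.eq, hy'⟩
          · exact fun e => h1 (congrArg Subtype.val e).symm
          · exact fun e => h1' (congrArg Subtype.val e).symm
          · exact fun e => hne (congrArg Subtype.val e)
        omega
      by_cases hx1 : x = 1
      · rw [hx1]; exact one_mem _
      have hcz : Commute x d.z := by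
        have hzc : Commute d.z (d.z ^ i * d.z' ^ j) :=
          ((Commute.refl d.z).pow_right i).mul_right (d.z_z'.pow_right j)
        have := hset _ hxW _ (hzW x hxW) hxa' ((hzc.mul_left hxa').mul_left hzc.inv_left) hx1
          (fun e => hx1 (conj_eq_one_iff.1 e))
        exact (mul_inv_eq_iff_eq_mul.1 this.symm).symm
      exact hψ (hCRz x (hWR hxW) hcz)
    by_cases hi0 : i = 0
    · subst hi0
      rw [pow_zero, one_mul] at hxa' ha1
      refine hS x hxW ?_
      interval_cases j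
      · exact absurd (pow_zero _) ha1
      · simpa using hxa'
      · have := hxa'.pow_right 2
        rwa [← pow_mul, show 2 * 2 = 3 + 1 by norm_num, pow_succ, d.z'_cube, one_mul] at this
    by_cases hj0 : j = 0
    · subst hj0
      rw [pow_zero, mul_one] at hxa' ha1
      refine hψ (hCRz x (hWR hxW) ?_)
      interval_cases i
      · exact absurd rfl hi0
      · simpa using hxa'
      · have := hxa'.pow_right 2
        rwa [← pow_mul, show 2 * 2 = 3 + 1 by norm_num, pow_succ, d.z_cube, one_mul] at this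
    exact hdiag hi0 hj0
  obtain ⟨w, hw, e, he, hwe⟩ := Subgroup.mem_sup_of_normal_left.1
    (hsup (Subgroup.mem_top (⟨g, (memR g).2 ⟨hg, hg'⟩⟩ : R)))
  have := congrArg Subtype.val hwe
  rw [Subgroup.coe_mul] at this
  rw [← show (w : G) * (e : G) = g from this]
  refine mul_mem (hWM ⟨w, hw, rfl⟩) (hψ ?_)
  obtain ⟨n, rfl⟩ := he
  exact ⟨kz ^ n, by rw [map_zpow, SubgroupClass.coe_zpow]; rfl⟩

/-- The commuting partner exists. -/
theorem exists_partner : ∃ j, Commute d.v (d.f j) := by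
  have : Fact (Nat.Prime 2) := ⟨Nat.prime_two⟩
  by_contra hcon
  simp only [not_exists] at hcon
  have hA : ∀ g, Commute g (d.ψ ka) → Commute g (d.ψ ka') → g ∈ d.ψ.range := by
    intro g h1 h2
    have h3 : Commute g (d.ψ (ka * ka')) := by rw [map_mul]; exact h1.mul_right h2
    set p := d.ψ kp with hp
    have hm : ∀ k : K, (kp * k * kp⁻¹ = ka ∨ kp * k * kp⁻¹ = ka' ∨ kp * k * kp⁻¹ = ka * ka') →
        Commute (p⁻¹ * g * p) (d.ψ k) := by
      intro k hk
      have : Commute g (p * d.ψ k * p⁻¹) := by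
        rw [hp, ← map_inv, ← map_mul, ← map_mul]
        rcases hk with e | e | e <;> rw [e] <;> assumption
      have := this.map (MulAut.conj p⁻¹).toMonoidHom
      simpa [mul_assoc] using this
    have h4 := d.cent_V_le d.ψ.range le_rfl (fun j hj => absurd hj (hcon j)) (hm kv kp_v.1)
      (hm kv' kp_v.2)
    have := mul_mem (mul_mem (⟨kp, rfl⟩ : p ∈ d.ψ.range) h4) (inv_mem ⟨kp, rfl⟩)
    rwa [show p * (p⁻¹ * g * p) * p⁻¹ = g by group] at this
  let VA : G → Prop := fun u => u = d.ψ ka ∨ u = d.ψ ka' ∨ u = d.ψ (ka * ka')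
  have hNA : ∀ g : G, VA (g * d.ψ ka * g⁻¹) → VA (g * d.ψ ka' * g⁻¹) → g ∈ d.ψ.range := by
    intro g h1 h2
    have hne : g * d.ψ ka * g⁻¹ ≠ g * d.ψ ka' * g⁻¹ := fun e =>
      absurd (d.inj (mul_left_cancel (mul_right_cancel e))) (by decide +kernel)
    have hz1 : Commute (g * d.z * g⁻¹) (g * d.ψ ka * g⁻¹) :=
      ((show Commute kz ka from ka_z.symm).map d.ψ).map (MulAut.conj g)
    have hz2 : Commute (g * d.z * g⁻¹) (g * d.ψ ka' * g⁻¹) :=
      ((show Commute kz ka' from ka'_z.symm).map d.ψ).map (MulAut.conj g)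
    have key : Commute (g * d.z * g⁻¹) (d.ψ ka) ∧ Commute (g * d.z * g⁻¹) (d.ψ ka') := by
      have hm := hz1.mul_right hz2
      have e12 : d.ψ (ka * ka') * d.ψ ka = d.ψ ka' := by
        rw [← map_mul]; exact congrArg d.ψ (by decide +kernel)
      have e13 : d.ψ (ka * ka') * d.ψ ka' = d.ψ ka := by
        rw [← map_mul]; exact congrArg d.ψ (by decide +kernel)
      have e21 : d.ψ ka * d.ψ (ka * ka') = d.ψ ka' := by
        rw [← map_mul]; exact congrArg d.ψ (by decide +kernel)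
      have e31 : d.ψ ka' * d.ψ (ka * ka') = d.ψ ka := by
        rw [← map_mul]; exact congrArg d.ψ (by decide +kernel)
      rcases h1 with e | e | e <;> rcases h2 with e' | e' | e' <;> rw [e] at hz1 hm hne <;>
        rw [e'] at hz2 hm hne
      · exact absurd rfl hne
      · exact ⟨hz1, hz2⟩
      · exact ⟨hz1, e21 ▸ hm⟩
      · exact ⟨hz2, hz1⟩
      · exact absurd rfl hne
      · exact ⟨e31 ▸ hm, hz1⟩
      · exact ⟨hz2, e12 ▸ hm⟩
      · exact ⟨e13 ▸ hm, hz2⟩
      · exact absurd rfl hne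
    obtain ⟨⟨⟨w, σ⟩, hk⟩, hk'⟩ := hA _ key.1 key.2
    have h3 : (⟨(w, σ), hk⟩ : K) ^ 3 = 1 := d.inj (by
      rw [map_pow, hk', conj_pow, d.z_cube, map_one]; group)
    have c1 := d.inj (show d.ψ (⟨(w, σ), hk⟩ * ka) = d.ψ (ka * ⟨(w, σ), hk⟩) by
      rw [map_mul, map_mul, hk']; exact key.1.eq)
    have c2 := d.inj (show d.ψ (⟨(w, σ), hk⟩ * ka') = d.ψ (ka' * ⟨(w, σ), hk⟩) by
      rw [map_mul, map_mul, hk']; exact key.2.eq)
    obtain ⟨rfl, hw⟩ := cent_VA_aux w σ (mem_K.1 hk)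
      (congrArg (fun k : K => (k : Perm (Fin 3) × Perm (Fin 5)).1) h3)
      (congrArg (fun k : K => (k : Perm (Fin 3) × Perm (Fin 5)).2) h3)
      (congrArg (fun k : K => (k : Perm (Fin 3) × Perm (Fin 5)).2) c1)
      (congrArg (fun k : K => (k : Perm (Fin 3) × Perm (Fin 5)).2) c2)
    rcases hw with rfl | rfl | rfl
    · exact absurd (conj_eq_one_iff.1 (hk'.symm.trans (map_one d.ψ))) d.z_ne
    · exact d.norm g (Or.inl hk'.symm)
    · exact d.norm g (Or.inr (hk'.symm.trans (by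
        rw [← map_inv]; exact congrArg d.ψ (Subtype.ext (by simp [kz, kk])))))
  have hconjq : ∀ (k : K) (g : G), k * k = 1 → k ≠ 1 → g * d.ψ k * g⁻¹ ≠ d.q := by
    intro k g hk2 hk1 hgq
    obtain ⟨c, rfl | rfl⟩ := inv_cases hk2 hk1
    · apply d.q_not_a (g * d.ψ c)
      rw [← hgq, map_mul, map_mul, map_inv]; group
    · apply d.q_not_a (g * d.ψ c * d.q)
      rw [mul_inv_rev, d.q_inv, show g * d.ψ c * d.q * d.ψ ka * (d.q * (g * d.ψ c)⁻¹) =
        g * d.ψ c * (d.q * d.ψ ka * d.q) * (g * d.ψ c)⁻¹ by group, d.q_a]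
      rw [map_mul, map_mul, map_inv] at hgq
      rw [← hgq]; group
  have hq1 : d.q ≠ 1 := by
    intro hq
    have := d.q_z
    rw [hq, one_mul, mul_one] at this
    exact absurd (d.inj this) (by decide +kernel)
  set S8 := K8.map d.ψ with hS8
  have hS8c : Nat.card S8 = 2 ^ 3 := by
    rw [hS8, Subgroup.card_map_of_injective d.inj, card_K8]; norm_num
  have hS8r : S8 ≤ d.ψ.range := Subgroup.map_le_range _ _
  have hcK : Nat.card d.ψ.range = 360 := by
    rw [← Nat.card_congr (MonoidHom.ofInjective d.inj).toEquiv]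
    have e : K ≃ {p : Perm (Fin 3) × Perm (Fin 5) // Perm.sign p.1 * Perm.sign p.2 = 1} :=
      Equiv.subtypeEquivRight fun p => mem_K
    rw [Nat.card_congr e, Nat.card_eq_fintype_card]
    decide +kernel
  by_cases h16 : 2 ^ (3 + 1) ∣ Nat.card G
  · obtain ⟨P, hPc, hle⟩ := Sylow.exists_subgroup_card_pow_succ h16 (H := S8) hS8c
    have hidx : (S8.subgroupOf P).index = 2 := by
      have h1 := (S8.subgroupOf P).card_mul_index
      rw [Nat.card_congr (Subgroup.subgroupOfEquivOfLe hle).toEquiv, hS8c, hPc] at h1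
      norm_num at h1
      omega
    have hnor : (S8.subgroupOf P).Normal := Subgroup.normal_of_index_eq_two hidx
    obtain ⟨g, hgP, hgS⟩ : ∃ g ∈ P, g ∉ S8 := by
      by_contra hno
      simp only [not_exists, not_and, not_not] at hno
      have h1 := Subgroup.card_dvd_of_le (fun x hx => hno x hx : P ≤ S8)
      rw [hPc, hS8c] at h1
      norm_num at h1
    have hgr : g ∉ d.ψ.range := by
      intro hg
      have h1 : S8 ≤ P ⊓ d.ψ.range := le_inf hle hS8r
      have h2 : Nat.card (P ⊓ d.ψ.range : Subgroup G) ∣ 2 ^ 4 := by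
        have := Subgroup.card_dvd_of_le (inf_le_left : P ⊓ d.ψ.range ≤ P)
        rwa [hPc] at this
      obtain ⟨n, hn, hn'⟩ := (Nat.dvd_prime_pow Nat.prime_two).1 h2
      have h3 : Nat.card (P ⊓ d.ψ.range : Subgroup G) ∣ 360 :=
        hcK ▸ Subgroup.card_dvd_of_le inf_le_right
      rw [hn'] at h3
      have hn3 : n ≤ 3 := by
        by_contra hlt
        obtain rfl : n = 4 := by omega
        norm_num at h3
      have heq : S8 = P ⊓ d.ψ.range := Subgroup.eq_of_le_of_card_ge h1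
        (by rw [hn', hS8c]; exact Nat.pow_le_pow_right (by norm_num) hn3)
      exact hgS (heq ▸ ⟨hgP, hg⟩)
    have himg : ∀ k ∈ K8, ∃ k' ∈ K8, d.ψ k' = g * d.ψ k * g⁻¹ := by
      intro k hk
      have := hnor.conj_mem ⟨d.ψ k, hle ⟨k, hk, rfl⟩⟩ ⟨k, hk, rfl⟩ ⟨g, hgP⟩
      exact this
    have ka_mem : ka ∈ K8 := (mem_K8 _).2 (by decide +kernel)
    have ka'_mem : ka' ∈ K8 := (mem_K8 _).2 (by decide +kernel)
    obtain ⟨⟨⟨w₁, σ₁⟩, hk₁⟩, hk₁8, e1⟩ := himg ka ka_mem
    obtain ⟨⟨⟨w₂, σ₂⟩, hk₂⟩, hk₂8, e2⟩ := himg ka' ka'_mem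
    set k₁ : K := ⟨(w₁, σ₁), hk₁⟩ with hk₁def
    set k₂ : K := ⟨(w₂, σ₂), hk₂⟩ with hk₂def
    have k1sq : k₁ * k₁ = 1 := d.inj (by
      rw [map_mul, e1, show g * d.ψ ka * g⁻¹ * (g * d.ψ ka * g⁻¹) =
        g * (d.ψ ka * d.ψ ka) * g⁻¹ by group, ← map_mul, ka_sq, map_one]; group)
    have k2sq : k₂ * k₂ = 1 := d.inj (by
      rw [map_mul, e2, show g * d.ψ ka' * g⁻¹ * (g * d.ψ ka' * g⁻¹) =
        g * (d.ψ ka' * d.ψ ka') * g⁻¹ by group, ← map_mul, ka'_sq, map_one]; group)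
    have k1ne : k₁ ≠ 1 := fun h => by
      rw [h, map_one] at e1
      exact ka_ne (d.inj ((conj_eq_one_iff.1 e1.symm).trans (map_one _).symm))
    have k2ne : k₂ ≠ 1 := fun h => by
      rw [h, map_one] at e2
      exact absurd (d.inj ((conj_eq_one_iff.1 e2.symm).trans (map_one _).symm))
        (by decide +kernel)
    have k12 : k₁ * k₂ = k₂ * k₁ := d.inj (by
      rw [map_mul, map_mul, e1, e2]
      exact (((show Commute ka ka' from ka_ka').map d.ψ).map (MulAut.conj g)).eq)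
    have k12ne : k₁ ≠ k₂ := fun h => by
      rw [h, e2] at e1
      exact absurd (d.inj (mul_left_cancel (mul_right_cancel e1))) (by decide +kernel)
    obtain ⟨c1, c1'⟩ := (mem_K8 hk₁).1 hk₁8
    obtain ⟨c2, c2'⟩ := (mem_K8 hk₂).1 hk₂8
    rcases fours_aux (w₁, σ₁) (w₂, σ₂) (mem_K.1 hk₁) c1 c1' (congrArg Subtype.val k1sq)
      (fun h => k1ne (Subtype.ext h)) (mem_K.1 hk₂) c2 c2' (congrArg Subtype.val k2sq)
      (fun h => k2ne (Subtype.ext h)) (congrArg Subtype.val k12)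
      (fun h => k12ne (Subtype.ext h)) with ⟨h1, h2⟩ | ⟨h1, h2⟩
    · refine hgr (hNA g ?_ ?_)
      · rw [← e1]
        rcases h1 with h | h | h
        · exact Or.inl (congrArg d.ψ (Subtype.ext h))
        · exact Or.inr (Or.inl (congrArg d.ψ (Subtype.ext h)))
        · exact Or.inr (Or.inr (congrArg d.ψ (Subtype.ext h)))
      · rw [← e2]
        rcases h2 with h | h | h
        · exact Or.inl (congrArg d.ψ (Subtype.ext h))
        · exact Or.inr (Or.inl (congrArg d.ψ (Subtype.ext h)))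
        · exact Or.inr (Or.inr (congrArg d.ψ (Subtype.ext h)))
    · -- `g` carries the one four group to the other, which `q` normalises
      let U : K → Prop := fun k => k = ka ∨ k = kb ∨ k = ka * kb
      have hU1 : U k₁ := by
        rcases h1 with h | h | h
        · exact Or.inl (Subtype.ext h)
        · exact Or.inr (Or.inl (Subtype.ext h))
        · exact Or.inr (Or.inr (Subtype.ext (h.trans (by simp [ka, kb, kk]))))
      have hU2 : U k₂ := by
        rcases h2 with h | h | h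
        · exact Or.inl (Subtype.ext h)
        · exact Or.inr (Or.inl (Subtype.ext h))
        · exact Or.inr (Or.inr (Subtype.ext (h.trans (by simp [ka, kb, kk]))))
      have hUconj : ∀ k, U k → ∃ k', U k' ∧ d.q * d.ψ k * d.q = d.ψ k' := by
        rintro k (rfl | rfl | rfl)
        · exact ⟨kb, Or.inr (Or.inl rfl), d.q_a⟩
        · exact ⟨ka, Or.inl rfl, d.q_b⟩
        · refine ⟨ka * kb, Or.inr (Or.inr rfl), ?_⟩
          rw [map_mul, show d.q * (d.ψ ka * d.ψ kb) * d.q = (d.q * d.ψ ka * d.q) *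
            (d.q * d.q) * (d.q * d.ψ kb * d.q) by
              rw [d.q_sq, mul_one]
              calc d.q * (d.ψ ka * d.ψ kb) * d.q
                  = d.q * d.ψ ka * (1 * d.ψ kb) * d.q := by group
                _ = d.q * d.ψ ka * ((d.q * d.q) * d.ψ kb) * d.q := by rw [d.q_sq]
                _ = _ := by group, d.q_sq, mul_one, d.q_a, d.q_b, ← map_mul, ← map_mul, ka_kb]
      have hback : ∀ k, U k → VA (g⁻¹ * d.ψ k * g) := by
        intro k hk
        have a1 : d.ψ ka = g⁻¹ * d.ψ k₁ * g := by rw [e1]; group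
        have a2 : d.ψ ka' = g⁻¹ * d.ψ k₂ * g := by rw [e2]; group
        have a3 : d.ψ (ka * ka') = g⁻¹ * d.ψ (k₁ * k₂) * g := by
          rw [map_mul, map_mul, e1, e2]; group
        have key : k = k₁ ∨ k = k₂ ∨ k = k₁ * k₂ := by
          rcases hk with rfl | rfl | rfl <;> rcases hU1 with h | h | h <;>
            rcases hU2 with h' | h' | h' <;> rw [h, h'] at k12ne ⊢ <;>
            first
              | exact absurd rfl k12ne
              | exact Or.inl rfl
              | exact Or.inr (Or.inl rfl)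
              | exact Or.inr (Or.inr (by decide +kernel))
        rcases key with rfl | rfl | rfl
        · exact Or.inl a1.symm
        · exact Or.inr (Or.inl a2.symm)
        · exact Or.inr (Or.inr a3.symm)
      obtain ⟨k₁', hk₁', hq₁⟩ := hUconj k₁ hU1
      obtain ⟨k₂', hk₂', hq₂⟩ := hUconj k₂ hU2
      obtain ⟨k, hk⟩ := hNA (g⁻¹ * d.q * g) (by
          rw [show g⁻¹ * d.q * g * d.ψ ka * (g⁻¹ * d.q * g)⁻¹ =
            g⁻¹ * (d.q * (g * d.ψ ka * g⁻¹) * d.q⁻¹) * g by group, d.q_inv, ← e1, hq₁]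
          exact hback _ hk₁') (by
          rw [show g⁻¹ * d.q * g * d.ψ ka' * (g⁻¹ * d.q * g)⁻¹ =
            g⁻¹ * (d.q * (g * d.ψ ka' * g⁻¹) * d.q⁻¹) * g by group, d.q_inv, ← e2, hq₂]
          exact hback _ hk₂')
      refine hconjq k g (d.inj ?_) ?_ ?_
      · rw [map_mul, hk, show g⁻¹ * d.q * g * (g⁻¹ * d.q * g) = g⁻¹ * (d.q * d.q) * g by group,
          d.q_sq, map_one]; group
      · intro h
        rw [h, map_one] at hk
        apply hq1
        calc d.q = g * (g⁻¹ * d.q * g) * g⁻¹ := by group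
          _ = 1 := by rw [← hk]; group
      · rw [hk]; group
  · have hi : ¬ 2 ∣ S8.index := by
      intro h2
      apply h16
      rw [← S8.card_mul_index, hS8c, pow_succ]
      exact mul_dvd_mul_left _ h2
    obtain ⟨P, hP⟩ : ∃ P : Sylow 2 G, (P : Subgroup G) = S8 :=
      ⟨(IsPGroup.of_card hS8c).toSylow hi, rfl⟩
    have hoq : orderOf d.q = 2 := orderOf_eq_prime (by rw [pow_two, d.q_sq]) hq1
    obtain ⟨Q, hQ⟩ := (IsPGroup.of_card (n := 1) (by rw [Nat.card_zpowers, hoq, pow_one]) :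
      IsPGroup 2 (Subgroup.zpowers d.q)).exists_le_sylow
    obtain ⟨k, hk⟩ := MulAction.exists_smul_eq G Q P
    have hmem : k * d.q * k⁻¹ ∈ S8 := by
      rw [← hP, ← hk, Sylow.coe_subgroup_smul]
      exact ⟨d.q, hQ (Subgroup.mem_zpowers _), rfl⟩
    obtain ⟨κ, -, hκ'⟩ := hmem
    refine hconjq κ k⁻¹ (d.inj ?_) ?_ ?_
    · rw [map_mul, hκ', show k * d.q * k⁻¹ * (k * d.q * k⁻¹) = k * (d.q * d.q) * k⁻¹ by group,
        d.q_sq, map_one]; group
    · intro h
      rw [h, map_one] at hκ'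
      exact hq1 (conj_eq_one_iff.1 hκ'.symm)
    · rw [hκ']; group

end Fin

end Data

end Cfsg.Agent.H87.AltEight
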