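import Mathlib
import Cfsg.Prelude.Def_Solvable

set_option autoImplicit false
open Pointwise

namespace Cfsg.Agent.H87

/-- A split extension in which the non-identity elements of the complement centralise no
non-identity element of the normal subgroup is a Frobenius group. -/
theorem frobenius_of_fixed_point_free {G : Type*} [Group G] [Finite G] (N H : Subgroup G) [N.Normal]
    (hN : N ≠ ⊥) (hH : H ≠ ⊥) (hdisj : N ⊓ H = ⊥) (htop : N ⊔ H = ⊤)
    (hfpf : ∀ h ∈ H, h ≠ 1 → ∀ n ∈ N, h * n = n * h → n = 1) :
    Cfsg.IsFrobeniusComplement H ∧ Cfsg.frobeniusKernel H = (N : Set G) := by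
  have mem_bot : ∀ {x : G}, x ∈ N → x ∈ H → x = 1 := fun {x} hx hx' => by
    have : x ∈ N ⊓ H := ⟨hx, hx'⟩
    rwa [hdisj, Subgroup.mem_bot] at this
  have decomp : ∀ g : G, ∃ n ∈ N, ∃ h ∈ H, g = n * h := by
    intro g
    have hg : g ∈ ((N ⊔ H : Subgroup G) : Set G) := by rw [htop]; trivial
    rw [Subgroup.normal_mul] at hg
    obtain ⟨n, hn, h, hh, rfl⟩ := hg
    exact ⟨n, hn, h, hh, rfl⟩
  have conj_mem : ∀ g x : G, x ∈ MulAut.conj g • H ↔ g⁻¹ * x * g ∈ H := by
    intro g x
    rw [Subgroup.mem_pointwise_smul_iff_inv_smul_mem]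
    simp [MulAut.smul_def]
  refine ⟨⟨hH, ?_, ?_⟩, ?_⟩
  · intro htop'
    subst htop'
    rw [inf_top_eq] at hdisj
    exact hN hdisj
  · intro g hg
    rw [Subgroup.eq_bot_iff_forall]
    rintro x ⟨hx, hx'⟩
    obtain ⟨n, hn, h₀, hh₀, rfl⟩ := decomp g
    have hx' := (conj_mem _ _).1 hx'
    have h2 : n⁻¹ * x * n ∈ H := by
      have := H.mul_mem (H.mul_mem hh₀ hx') (H.inv_mem hh₀)
      convert this using 1; group
    have hn1 : n⁻¹ * x * n * x⁻¹ ∈ N := by
      have := N.mul_mem (N.inv_mem hn) (Subgroup.Normal.conj_mem inferInstance n hn x)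
      convert this using 1; group
    have h3 := mem_bot hn1 (H.mul_mem h2 (H.inv_mem hx))
    by_contra hx1
    have hcomm : x * n = n * x := by
      have h4 : n⁻¹ * x * n = x := mul_inv_eq_one.1 h3
      calc x * n = n * (n⁻¹ * x * n) := by group
        _ = n * x := by rw [h4]
    have := hfpf x hx hx1 n hn hcomm
    subst this
    exact hg (by simpa using hh₀)
  · ext x
    constructor
    · rintro (rfl | hx)
      · exact N.one_mem
      · obtain ⟨n, hn, h, hh, rfl⟩ := decomp x
        by_cases h1 : h = 1
        · simpa [h1] using hn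
        · exfalso
          -- conjugation of `h` by elements of `N` covers the coset `N h`
          let f : N → N := fun m => ⟨(m : G) * (h * (m : G)⁻¹ * h⁻¹),
            N.mul_mem m.2 (Subgroup.Normal.conj_mem inferInstance _ (N.inv_mem m.2) h)⟩
          have hf : Function.Injective f := by
            intro a b hab
            have hab : (a : G) * (h * (a : G)⁻¹ * h⁻¹) = (b : G) * (h * (b : G)⁻¹ * h⁻¹) :=
              congrArg Subtype.val hab
            have hk : h * ((b : G)⁻¹ * a) = ((b : G)⁻¹ * a) * h := by
              have : (a : G) * h * (a : G)⁻¹ = (b : G) * h * (b : G)⁻¹ := by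
                have := congrArg (· * h) hab
                simpa [mul_assoc] using this
              calc h * ((b : G)⁻¹ * a) = (b : G)⁻¹ * ((b : G) * h * (b : G)⁻¹) * a := by group
                _ = (b : G)⁻¹ * ((a : G) * h * (a : G)⁻¹) * a := by rw [this]
                _ = _ := by group
            have := hfpf h hh h1 _ (N.mul_mem (N.inv_mem b.2) a.2) hk
            exact Subtype.ext ((inv_mul_eq_one.1 this).symm)
          obtain ⟨m, hm⟩ := (Finite.injective_iff_surjective.1 hf) ⟨n, hn⟩
          have hm : (m : G) * (h * (m : G)⁻¹ * h⁻¹) = n := congrArg Subtype.val hm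
          apply hx m
          rw [conj_mem]
          convert hh using 1
          rw [← hm]; group
    · intro hx
      by_cases h1 : x = 1
      · exact Or.inl h1
      · refine Or.inr fun g hg => h1 ?_
        rw [conj_mem] at hg
        have := mem_bot (by simpa using Subgroup.Normal.conj_mem (inferInstance : N.Normal) x hx g⁻¹) hg
        calc x = g * (g⁻¹ * x * g) * g⁻¹ := by group
          _ = 1 := by rw [this]; group

end Cfsg.Agent.H87
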