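import Mathlib

/-!
# The undirected power graph determines the prime graph

If `g` generates a maximal cyclic subgroup of order `n`, `n` not a prime power, and `e` is an
isomorphism of power graphs, then `e g` has order `n` (or the whole image group is cyclic).
-/

set_option autoImplicit false

namespace Cfsg.Agent.H87

variable {G : Type*} [Group G] [Finite G]

/-- Adjacency in the power graph, made reflexive. -/
def PAdj (x y : G) : Prop := x ∈ Subgroup.zpowers y ∨ y ∈ Subgroup.zpowers x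

theorem PAdj.symm {x y : G} (h : PAdj x y) : PAdj y x := Or.symm h

omit [Finite G] in
theorem orderOf_dvd_of_mem {x y : G} (h : x ∈ Subgroup.zpowers y) : orderOf x ∣ orderOf y := by
  obtain ⟨i, rfl⟩ := h
  exact orderOf_dvd_of_pow_eq_one (by
    rw [← zpow_natCast, ← zpow_mul, mul_comm, zpow_mul, zpow_natCast, pow_orderOf_eq_one, one_zpow])

theorem zpowers_eq_of_mem {x y : G} (h : x ∈ Subgroup.zpowers y) (hd : orderOf y ∣ orderOf x) :
    Subgroup.zpowers x = Subgroup.zpowers y :=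
  Subgroup.eq_of_le_of_card_ge (Subgroup.zpowers_le.2 h) (by
    rw [Nat.card_zpowers, Nat.card_zpowers]
    exact Nat.le_of_dvd (orderOf_pos x) hd)

theorem mem_of_orderOf_dvd {g x y : G} (hx : x ∈ Subgroup.zpowers g) (hy : y ∈ Subgroup.zpowers g)
    (hd : orderOf x ∣ orderOf y) : x ∈ Subgroup.zpowers y := by
  rw [← mem_powers_iff_mem_zpowers, Submonoid.mem_powers_iff] at hx hy
  obtain ⟨i, rfl⟩ := hx
  obtain ⟨j, rfl⟩ := hy
  rw [orderOf_pow, orderOf_pow] at hd
  have h1 : Nat.gcd (orderOf g) i ∣ i := Nat.gcd_dvd_right _ _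
  have h2 : Nat.gcd (orderOf g) j ∣ Nat.gcd (orderOf g) i := by
    obtain ⟨c, hc⟩ := hd
    have hi := Nat.gcd_dvd_left (orderOf g) i
    have hj := Nat.gcd_dvd_left (orderOf g) j
    have e1 := Nat.div_mul_cancel hi
    have e2 := Nat.div_mul_cancel hj
    refine ⟨c, ?_⟩
    have hpos : 0 < orderOf g / Nat.gcd (orderOf g) i :=
      Nat.div_pos (Nat.le_of_dvd (orderOf_pos g) hi) (Nat.gcd_pos_of_pos_left _ (orderOf_pos g))
    rw [hc] at e2
    refine Nat.eq_of_mul_eq_mul_left hpos ?_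
    rw [e1]; linarith [e2]
  obtain ⟨c, hc⟩ := h2.trans h1
  obtain ⟨u, v, huv⟩ : ∃ u v : ℤ, (Nat.gcd (orderOf g) j : ℤ) = orderOf g * u + j * v :=
    ⟨_, _, Nat.gcd_eq_gcd_ab _ _⟩
  refine ⟨v * c, ?_⟩
  show (g ^ j) ^ (v * (c : ℤ)) = g ^ i
  rw [← zpow_natCast g i, hc, Nat.cast_mul, huv, ← zpow_natCast g j, ← zpow_mul, add_mul,
    zpow_add, mul_assoc, zpow_mul g (orderOf g : ℤ), zpow_natCast, pow_orderOf_eq_one, one_zpow,
    one_mul, mul_assoc]

omit [Finite G] in
theorem exists_of_dvd {g : G} {d : ℕ} (hd : d ∣ orderOf g) (h0 : orderOf g ≠ 0) :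
    ∃ x ∈ Subgroup.zpowers g, orderOf x = d :=
  ⟨g ^ (orderOf g / d), Subgroup.pow_mem _ (Subgroup.mem_zpowers g) _,
    orderOf_pow_orderOf_div h0 hd⟩

/-- An element of prime power order is comparable to an element of coprime order only trivially. -/
theorem not_pAdj_of_primes {x y : G} {p q i j : ℕ} (hp : p.Prime) (hq : q.Prime) (hpq : p ≠ q)
    (hx : orderOf x = p ^ i) (hi : i ≠ 0) (hy : orderOf y = q ^ j) (hj : j ≠ 0) : ¬ PAdj x y := by
  rintro (h | h)
  · have := (orderOf_dvd_of_mem h).trans hy.dvd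
    rw [hx] at this
    exact hpq ((Nat.prime_dvd_prime_iff_eq hp hq).1 (hp.dvd_of_dvd_pow ((dvd_pow_self p hi).trans this)))
  · have := (orderOf_dvd_of_mem h).trans hx.dvd
    rw [hy] at this
    exact hpq ((Nat.prime_dvd_prime_iff_eq hq hp).1 (hq.dvd_of_dvd_pow ((dvd_pow_self q hj).trans this))).symm

/-- A non-identity vertex adjacent to everything generates the group, unless the group has prime
power order. -/
theorem orderOf_eq_card_of_universal {u : G} (hu : u ≠ 1) (h : ∀ x, PAdj u x) {p q : ℕ}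
    (hp : p.Prime) (hq : q.Prime) (hpq : p ≠ q) (hpd : p ∣ Nat.card G) (hqd : q ∣ Nat.card G) :
    orderOf u = Nat.card G := by
  have hprime : ∀ s : ℕ, s.Prime → s ∣ Nat.card G → s ∣ orderOf u := by
    intro s hs hsd
    haveI := Fact.mk hs
    obtain ⟨v, hv⟩ := exists_prime_orderOf_dvd_card' s hsd
    rcases h v with h' | h'
    · have := orderOf_dvd_of_mem h'
      rw [hv] at this
      rcases (Nat.dvd_prime hs).1 this with h1 | h1
      · exact absurd (orderOf_eq_one_iff.1 h1) hu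
      · rw [h1]
    · exact hv ▸ orderOf_dvd_of_mem h'
  refine Nat.dvd_antisymm (orderOf_dvd_natCard u) ?_
  refine (Nat.factorization_le_iff_dvd Nat.card_pos.ne' (orderOf_pos u).ne').1 fun s => ?_
  by_cases hs : s.Prime
  swap
  · simp [Nat.factorization_eq_zero_of_not_prime _ hs]
  haveI := Fact.mk hs
  rw [← hs.pow_dvd_iff_le_factorization (orderOf_pos u).ne']
  obtain ⟨P⟩ : Nonempty (Sylow s G) := inferInstance
  rw [← P.card_eq_multiplicity, ← Nat.card_zpowers u]
  refine Subgroup.card_dvd_of_le fun v hv => ?_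
  rcases h v with h' | h'
  · exfalso
    obtain ⟨k, hk⟩ := IsPGroup.iff_orderOf.1 P.2 ⟨v, hv⟩
    rw [Subgroup.orderOf_mk] at hk
    have h1 : ∀ r : ℕ, r.Prime → r ∣ Nat.card G → r = s := fun r hr hrd => by
      have := (hprime r hr hrd).trans ((orderOf_dvd_of_mem h').trans hk.dvd)
      exact (Nat.prime_dvd_prime_iff_eq hr hs).1 (hr.dvd_of_dvd_pow this)
    exact hpq ((h1 p hp hpd).trans (h1 q hq hqd).symm)
  · exact h'

/-- Vertices with equal closed neighbourhoods, one of composite (non prime power) order, generate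
the same subgroup. -/
theorem zpowers_eq_of_twin {h y : G} (hy : y ≠ 1) (htw : ∀ z, PAdj h z ↔ PAdj y z)
    {r s : ℕ} (hr : r.Prime) (hs : s.Prime) (hrs : r ≠ s) (hrd : r ∣ orderOf h) (hsd : s ∣ orderOf h) :
    Subgroup.zpowers y = Subgroup.zpowers h := by
  -- if `a` lies strictly below a composite `b`, their neighbourhoods differ
  have key : ∀ a b : G, a ≠ 1 → a ∈ Subgroup.zpowers b → (∀ z, PAdj b z ↔ PAdj a z) →
      r ∣ orderOf b → s ∣ orderOf b → Subgroup.zpowers a = Subgroup.zpowers b := by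
    intro a b ha hab htw hrb hsb
    refine zpowers_eq_of_mem hab ?_
    refine (Nat.factorization_le_iff_dvd (orderOf_pos b).ne' (orderOf_pos a).ne').1 fun t => ?_
    by_cases ht : t.Prime
    swap
    · simp [Nat.factorization_eq_zero_of_not_prime _ ht]
    rw [← ht.pow_dvd_iff_le_factorization (orderOf_pos a).ne']
    by_cases hk : (orderOf b).factorization t = 0
    · simp [hk]
    obtain ⟨v, hvb, hv⟩ := exists_of_dvd (g := b) (Nat.ordProj_dvd (orderOf b) t) (orderOf_pos b).ne'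
    rcases (htw v).1 (Or.inr hvb) with h' | h'
    · -- `a` is a `t`-element: use a prime of `b` other than `t`
      exfalso
      obtain ⟨u, hu, hut, hub⟩ : ∃ u : ℕ, u.Prime ∧ u ≠ t ∧ u ∣ orderOf b := by
        by_cases hrt : r = t
        · exact ⟨s, hs, fun h => hrs (hrt.trans h.symm), hsb⟩
        · exact ⟨r, hr, hrt, hrb⟩
      obtain ⟨i, -, hi⟩ := (Nat.dvd_prime_pow ht).1 (hv ▸ orderOf_dvd_of_mem h')
      have hi0 : i ≠ 0 := fun h0 => ha (orderOf_eq_one_iff.1 (by rw [hi, h0, pow_zero]))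
      obtain ⟨w, hwb, hw⟩ := exists_of_dvd (g := b) hub (orderOf_pos b).ne'
      exact not_pAdj_of_primes ht hu hut.symm hi hi0 (j := 1) (by rw [pow_one, hw]) one_ne_zero
        ((htw w).1 (Or.inr hwb))
    · exact hv ▸ orderOf_dvd_of_mem h'
  rcases (htw h).1 (Or.inl (Subgroup.mem_zpowers h)) with h' | h'
  · exact key y h hy h' htw hrd hsd
  · have hh : h ≠ 1 := fun e => hr.not_dvd_one (by rw [e, orderOf_one] at hrd; exact hrd)
    exact (key h y hh h' (fun z => (htw z).symm) (hrd.trans (orderOf_dvd_of_mem h'))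
      (hsd.trans (orderOf_dvd_of_mem h'))).symm

theorem card_zpowers_generators (g : G) :
    Nat.card {x : G // Subgroup.zpowers x = Subgroup.zpowers g} = Nat.totient (orderOf g) := by
  classical
  haveI := Fintype.ofFinite (Subgroup.zpowers g)
  rw [← IsCyclic.card_orderOf_eq_totient (α := Subgroup.zpowers g)
    (d := orderOf g) (by rw [← Nat.card_eq_fintype_card, Nat.card_zpowers]),
    ← Fintype.card_subtype, ← Nat.card_eq_fintype_card]
  refine Nat.card_congr
    { toFun := fun x => ⟨⟨x.1, x.2.le (Subgroup.mem_zpowers x.1)⟩, ?_⟩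
      invFun := fun x => ⟨x.1.1, zpowers_eq_of_mem x.1.2 ?_⟩
      left_inv := fun x => rfl
      right_inv := fun x => rfl }
  · rw [Subgroup.orderOf_mk, ← Nat.card_zpowers, x.2, Nat.card_zpowers]
  · rw [Subgroup.orderOf_coe, x.2]

theorem card_le_of_orderOf_dvd_prime {g : G} {p : ℕ} (hp : p.Prime) {x : G} (hxg : x ∈ Subgroup.zpowers g)
    (hx : orderOf x = p) (T : Set G)
    (hT : ∀ t ∈ T, Subgroup.zpowers t = Subgroup.zpowers x) : Nat.card T ≤ p - 1 := by
  rw [← Nat.totient_prime hp, ← hx, ← card_zpowers_generators x]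
  exact Nat.card_le_card_of_injective (fun t => (⟨t.1, hT t.1 t.2⟩ : {y : G // Subgroup.zpowers y = Subgroup.zpowers x}))
    fun a b h => Subtype.ext (congrArg (fun y : {y : G // Subgroup.zpowers y = Subgroup.zpowers x} => y.1) h)

/-- The image of a generator of a maximal cyclic subgroup of composite order under an isomorphism
of power graphs has order divisible by that order, for a suitable choice of element. -/
theorem exists_orderOf_dvd {H : Type*} [Group H] [Finite H] (e : G ≃ H)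
    (he : ∀ x y : G, PAdj x y ↔ PAdj (e x) (e y)) {g : G}
    (hmax : ∀ x, g ∈ Subgroup.zpowers x → x ∈ Subgroup.zpowers g) {p q : ℕ} (hp : p.Prime)
    (hq : q.Prime) (hpq : p ≠ q) (hpd : p ∣ orderOf g) (hqd : q ∣ orderOf g) :
    ∃ h : H, orderOf g ∣ orderOf h := by
  classical
  have hGH : Nat.card G = Nat.card H := Nat.card_congr e
  have hnG : orderOf g ∣ Nat.card G := orderOf_dvd_natCard g
  by_cases he1 : e 1 ≠ 1
  · refine ⟨e 1, ?_⟩
    rw [orderOf_eq_card_of_universal he1 (fun z => ?_) hp hq hpq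
      (hGH ▸ hpd.trans hnG) (hGH ▸ hqd.trans hnG), ← hGH]
    · exact hnG
    · rw [← e.apply_symm_apply z, ← he]; exact Or.inl (one_mem _)
  push_neg at he1
  have hg1 : g ≠ 1 := fun h => hp.not_dvd_one (by rw [h, orderOf_one] at hpd; exact hpd)
  have hN : ∀ y, PAdj g y ↔ y ∈ Subgroup.zpowers g := fun y =>
    ⟨fun h => h.elim (hmax y) id, fun h => Or.inr h⟩
  set n := orderOf g with hn
  have hn0 : n ≠ 0 := (orderOf_pos g).ne'
  -- the least prime `p₀` and another prime `q₀`
  set p₀ := n.minFac with hp₀def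
  have hp₀ : p₀.Prime := Nat.minFac_prime fun h => hp.not_dvd_one (h ▸ hpd)
  have hp₀d : p₀ ∣ n := Nat.minFac_dvd n
  obtain ⟨q₀, hq₀, hq₀d, hne₀⟩ : ∃ q₀ : ℕ, q₀.Prime ∧ q₀ ∣ n ∧ q₀ ≠ p₀ := by
    by_cases h : p = p₀
    · exact ⟨q, hq, hqd, fun h' => hpq (h.trans h'.symm)⟩
    · exact ⟨p, hp, hpd, h⟩
  have htot : 2 * (p₀ - 1) ≤ n.totient := by
    refine le_trans ?_ (Nat.le_of_dvd (Nat.totient_pos.2 (orderOf_pos g))
      (Nat.totient_dvd_of_dvd (((Nat.coprime_primes hp₀ hq₀).2 hne₀.symm).mul_dvd_of_dvd_of_dvd hp₀d hq₀d)))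
    rw [Nat.totient_mul ((Nat.coprime_primes hp₀ hq₀).2 hne₀.symm), Nat.totient_prime hp₀,
      Nat.totient_prime hq₀, mul_comm]
    refine Nat.mul_le_mul_left _ ?_
    have : p₀ < q₀ := lt_of_le_of_ne (Nat.minFac_le_of_dvd hq₀.two_le hq₀d) hne₀.symm
    have := hp₀.two_le
    omega
  let Gen := {x : G // Subgroup.zpowers x = Subgroup.zpowers g}
  have hgenN : ∀ x : Gen, ∀ z, PAdj (e x.1) (e z) ↔ PAdj (e g) (e z) := by
    intro x z
    rw [← he, ← he]
    have : ∀ w, (w ∈ Subgroup.zpowers x.1 ↔ w ∈ Subgroup.zpowers g) ∧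
        (x.1 ∈ Subgroup.zpowers w ↔ g ∈ Subgroup.zpowers w) := fun w =>
      ⟨by rw [x.2], by rw [← Subgroup.zpowers_le, x.2, Subgroup.zpowers_le]⟩
    exact or_congr (this z).2 (this z).1
  have hgen1 : ∀ x : Gen, e x.1 ≠ 1 := fun x h => by
    rw [← he1] at h
    have hx := x.2
    rw [e.injective h, Subgroup.zpowers_one_eq_bot, eq_comm, Subgroup.zpowers_eq_bot] at hx
    exact hg1 hx
  -- choose `h`: of composite order if possible, else of largest order
  obtain ⟨x₀, hφ, hgenin⟩ : ∃ x₀ : Gen, p₀ - 1 < Nat.totient (orderOf (e x₀.1)) ∧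
      ∀ x : Gen, e x.1 ∈ Subgroup.zpowers (e x₀.1) := by
    have hcard : Nat.card Gen = n.totient := card_zpowers_generators g
    by_cases hc : ∃ x : Gen, ∃ r s : ℕ, r.Prime ∧ s.Prime ∧ r ≠ s ∧ r ∣ orderOf (e x.1) ∧
        s ∣ orderOf (e x.1)
    · obtain ⟨x₀, r, s, hr, hs, hrs, hrd, hsd⟩ := hc
      have heq : ∀ x : Gen, Subgroup.zpowers (e x.1) = Subgroup.zpowers (e x₀.1) := fun x =>
        zpowers_eq_of_twin (hgen1 x) (fun z => by
          rw [← e.apply_symm_apply z]
          exact (hgenN x₀ _).trans (hgenN x _).symm) hr hs hrs hrd hsd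
      refine ⟨x₀, lt_of_lt_of_le (b := n.totient) (by have := hp₀.two_le; omega) ?_,
        fun x => heq x ▸ Subgroup.mem_zpowers _⟩
      rw [← hcard, ← card_zpowers_generators (e x₀.1)]
      refine Nat.card_le_card_of_injective (fun x : Gen =>
        (⟨e x.1, heq x⟩ : {y : H // Subgroup.zpowers y = Subgroup.zpowers (e x₀.1)}))
        fun a b h => Subtype.ext (e.injective (congrArg (fun y : {y : H // Subgroup.zpowers y = Subgroup.zpowers (e x₀.1)} => y.1) h))
    push_neg at hc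
    haveI : Nonempty Gen := ⟨⟨g, rfl⟩⟩
    obtain ⟨x₀, hx₀⟩ := Finite.exists_max fun x : Gen => orderOf (e x.1)
    suffices hmem : (∀ x : Gen, e x.1 ∈ Subgroup.zpowers (e x₀.1)) ∧
        p₀ - 1 < Nat.totient (orderOf (e x₀.1)) from ⟨x₀, hmem.2, hmem.1⟩
    obtain ⟨r, hr, hrd⟩ := Nat.exists_prime_and_dvd
      (mt orderOf_eq_one_iff.1 (hgen1 x₀))
    have hpow : ∃ a, 0 < a ∧ orderOf (e x₀.1) = r ^ a := by
      obtain ⟨a, ha⟩ : ∃ a, orderOf (e x₀.1) = r ^ a :=
        ⟨_, Nat.eq_prime_pow_of_unique_prime_dvd (orderOf_pos _).ne'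
          fun {s} hs hsd => by_contra fun hne => hc x₀ r s hr hs (Ne.symm hne) hrd hsd⟩
      refine ⟨a, Nat.pos_of_ne_zero fun h => hgen1 x₀ (orderOf_eq_one_iff.1 (by rw [ha, h, pow_zero])), ha⟩
    obtain ⟨a, ha0, ha⟩ := hpow
    have hmem : ∀ x : Gen, e x.1 ∈ Subgroup.zpowers (e x₀.1) := by
      intro x
      have hadj : PAdj (e x.1) (e x₀.1) := (hgenN x _).2 ((hgenN x₀ _).1 (Or.inl (Subgroup.mem_zpowers _)))
      rcases hadj with h | h
      · exact h
      · rw [zpowers_eq_of_mem h (dvd_of_eq (le_antisymm (hx₀ x)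
          (Nat.le_of_dvd (orderOf_pos _) (orderOf_dvd_of_mem h))))]
        exact Subgroup.mem_zpowers _
    refine ⟨hmem, ?_⟩
    have h1 : n.totient + 1 ≤ r ^ a := by
      rw [← hcard, ← ha, ← Nat.card_zpowers (e x₀.1)]
      rw [← Finite.card_option]
      exact Nat.card_le_card_of_injective
        (fun o => (o.elim ⟨1, one_mem _⟩ fun x : Gen => ⟨e x.1, hmem x⟩ :
          Subgroup.zpowers (e x₀.1))) (by
        rintro (_ | a) (_ | b) h <;> simp only [Option.elim, Subtype.mk.injEq] at h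
        · rfl
        · exact absurd h.symm (hgen1 b)
        · exact absurd h (hgen1 a)
        · rw [Subtype.ext (e.injective h)])
    rw [ha, Nat.totient_prime_pow hr ha0]
    obtain ⟨b, rfl⟩ : ∃ b, a = b + 1 := ⟨a - 1, by omega⟩
    rw [pow_succ] at h1
    simp only [Nat.add_sub_cancel]
    have h2 : r ≤ 2 * (r - 1) := by have := hr.two_le; omega
    have := Nat.mul_le_mul_left (r ^ b) h2
    rw [show r ^ b * (2 * (r - 1)) = 2 * (r ^ b * (r - 1)) by ring] at this
    omega
  set h := e x₀.1 with hh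
  -- everything in `⟨g⟩` maps into `⟨h⟩` or strictly above it
  have hNh : ∀ y, PAdj h (e y) ↔ y ∈ Subgroup.zpowers g := fun y => by
    rw [hh, hgenN x₀, ← he, hN]
  have hup : ∀ y, y ∈ Subgroup.zpowers g → e y ∉ Subgroup.zpowers h → h ∈ Subgroup.zpowers (e y) :=
    fun y hy hy' => ((hNh y).2 hy).elim id fun h' => absurd h' hy'
  have hmix : ∀ y z, e y ∈ Subgroup.zpowers h → z ∈ Subgroup.zpowers g →
      e z ∉ Subgroup.zpowers h → PAdj y z := fun y z hy hz hz' =>
    (he y z).2 (Or.inl (Subgroup.zpowers_le.2 (hup z hz hz') hy))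
  obtain ⟨xp, hxpg, hxp⟩ := exists_of_dvd (g := g) hp₀d hn0
  have hpin : e xp ∈ Subgroup.zpowers h := by
    by_contra hout
    have hle : Nat.totient (orderOf h) ≤ p₀ - 1 := by
      refine le_trans (Nat.le_of_dvd (Nat.totient_pos.2 (orderOf_pos _))
        (Nat.totient_dvd_of_dvd (orderOf_dvd_of_mem (hup xp hxpg hout)))) ?_
      rw [← card_zpowers_generators (e xp)]
      let T : Set G := {x | Subgroup.zpowers (e x) = Subgroup.zpowers (e xp)}
      refine le_trans (le_of_eq (Nat.card_congr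
        ({ toFun := fun y => ⟨e.symm y.1, by simpa [T] using y.2⟩
           invFun := fun x => ⟨e x.1, x.2⟩
           left_inv := fun y => by simp
           right_inv := fun x => by simp } : _ ≃ T))) ?_
      refine card_le_of_orderOf_dvd_prime hp₀ hxpg hxp T fun t ht => ?_
      have ht : Subgroup.zpowers (e t) = Subgroup.zpowers (e xp) := ht
      have htw : ∀ z, PAdj t z ↔ PAdj xp z := by
        intro z
        rw [he, he]
        exact or_congr (by rw [← Subgroup.zpowers_le, ht, Subgroup.zpowers_le]) (by rw [ht])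
      have htg : t ∈ Subgroup.zpowers g := (hN t).1 ((htw g).2 (((hN xp).2 hxpg).symm)).symm
      obtain ⟨xq, hxqg, hxq⟩ := exists_of_dvd (g := g) hq₀d hn0
      have hnadj : ¬ PAdj xp xq := not_pAdj_of_primes hp₀ hq₀ hne₀.symm (i := 1) (j := 1)
        (by rw [pow_one, hxp]) one_ne_zero (by rw [pow_one, hxq]) one_ne_zero
      have ht1 : t ≠ 1 := fun h => hnadj ((htw xq).1 (Or.inl (by rw [h]; exact one_mem _)))
      rcases (htw xp).2 (Or.inl (Subgroup.mem_zpowers xp)) with h' | h'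
      · refine zpowers_eq_of_mem h' ?_
        rw [hxp]
        have := orderOf_dvd_of_mem h'
        rw [hxp] at this
        rcases (Nat.dvd_prime hp₀).1 this with h1 | h1
        · exact absurd (orderOf_eq_one_iff.1 h1) ht1
        · rw [h1]
      -- `t` is a `p₀`-element
      obtain ⟨j, hj⟩ : ∃ j, orderOf t = p₀ ^ j := ⟨_, Nat.eq_prime_pow_of_unique_prime_dvd
        (orderOf_pos t).ne' fun {s} hs hsd => by_contra fun hne => by
          obtain ⟨w, hwt, hw⟩ := exists_of_dvd (g := t) hsd (orderOf_pos t).ne'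
          exact not_pAdj_of_primes hp₀ hs (Ne.symm hne) (i := 1) (j := 1) (by rw [pow_one, hxp])
            one_ne_zero (by rw [pow_one, hw]) one_ne_zero ((htw w).1 (Or.inr hwt))⟩
      have hcop := (Nat.coprime_primes hp₀ hq₀).2 hne₀.symm
      obtain ⟨w, hwg, hw⟩ := exists_of_dvd (g := g) (hcop.mul_dvd_of_dvd_of_dvd hp₀d hq₀d) hn0
      have hadj := (htw w).2 (Or.inl (mem_of_orderOf_dvd hxpg hwg (by rw [hxp, hw]; exact dvd_mul_right _ _)))
      rcases hadj with h'' | h''
      · have h1 := orderOf_dvd_of_mem h''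
        rw [hj, hw] at h1
        have h2 : p₀ ^ j ∣ p₀ := ((hcop.pow_left j).dvd_of_dvd_mul_right h1)
        exact (zpowers_eq_of_mem h' (by rw [hj, hxp]; exact h2)).symm
      · have h1 := (orderOf_dvd_of_mem h'').trans hj.dvd
        rw [hw] at h1
        exact absurd ((Nat.prime_dvd_prime_iff_eq hq₀ hp₀).1
          (hq₀.dvd_of_dvd_pow ((dvd_mul_left _ _).trans h1))) hne₀
    omega
  have hsin : ∀ (s : ℕ) (x : G), s.Prime → x ∈ Subgroup.zpowers g → orderOf x = s →
      e x ∈ Subgroup.zpowers h := by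
    intro s x hs hxg hx
    by_contra hout
    have hadj := hmix xp x hpin hxg hout
    by_cases hsp : s = p₀
    · subst hsp
      apply hout
      -- then `x ∈ ⟨xp⟩`, whose image is in `⟨h⟩` as `e` maps it to a twin
      have hx' := mem_of_orderOf_dvd hxg hxpg (by rw [hx, hxp])
      obtain ⟨xq, hxqg, hxq⟩ := exists_of_dvd (g := g) hq₀d hn0
      have hnadj : ¬ PAdj x xq := not_pAdj_of_primes hp₀ hq₀ hne₀.symm (i := 1) (j := 1)
        (by rw [pow_one, hx]) one_ne_zero (by rw [pow_one, hxq]) one_ne_zero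
      by_cases hq' : e xq ∈ Subgroup.zpowers h
      · exact absurd (hmix xq x hq' hxg hout).symm hnadj
      · exact absurd (hmix xp xq hpin hxqg hq') (not_pAdj_of_primes hp₀ hq₀ hne₀.symm (i := 1) (j := 1)
          (by rw [pow_one, hxp]) one_ne_zero (by rw [pow_one, hxq]) one_ne_zero)
    · exact not_pAdj_of_primes hp₀ hs (Ne.symm hsp) (i := 1) (j := 1) (by rw [pow_one, hxp])
        one_ne_zero (by rw [pow_one, hx]) one_ne_zero hadj
  -- images outside `⟨h⟩` come from orders divisible by every prime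
  have hrad : ∀ y, y ∈ Subgroup.zpowers g → e y ∉ Subgroup.zpowers h →
      ∀ s : ℕ, s.Prime → s ∣ n → s ∣ orderOf y := by
    intro y hy hy' s hs hsd
    have hy1 : y ≠ 1 := fun h' => hy' (by rw [h', he1]; exact one_mem _)
    obtain ⟨u, hug, hu⟩ := exists_of_dvd (g := g) hsd hn0
    rcases hmix u y (hsin s u hs hug hu) hy hy' with h' | h'
    · exact hu ▸ orderOf_dvd_of_mem h'
    · have := orderOf_dvd_of_mem h'
      rw [hu] at this
      rcases (Nat.dvd_prime hs).1 this with h1 | h1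
      · exact absurd (orderOf_eq_one_iff.1 h1) hy1
      · rw [h1]
  have hall : ∀ y, y ∈ Subgroup.zpowers g → e y ∈ Subgroup.zpowers h := by
    intro y hy
    by_contra hy'
    by_cases hfull : n ∣ orderOf y
    · -- a generator: a twin of `h`
      exact hy' (hgenin ⟨y, zpowers_eq_of_mem hy hfull⟩)
    obtain ⟨s, hs, hsd⟩ : ∃ s : ℕ, s.Prime ∧ ¬ s ^ n.factorization s ∣ orderOf y := by
      by_contra hno
      push_neg at hno
      refine hfull ((Nat.factorization_le_iff_dvd hn0 (orderOf_pos y).ne').1 fun s => ?_)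
      by_cases hs : s.Prime
      · exact (hs.pow_dvd_iff_le_factorization (orderOf_pos y).ne').1 (hno s hs)
      · simp [Nat.factorization_eq_zero_of_not_prime _ hs]
    have hk : n.factorization s ≠ 0 := fun h0 => hsd (by rw [h0, pow_zero]; exact one_dvd _)
    obtain ⟨v, hvg, hv⟩ := exists_of_dvd (g := g) (Nat.ordProj_dvd n s) hn0
    have hvin : e v ∈ Subgroup.zpowers h := by
      by_contra hvout
      obtain ⟨s', hs', hs'd, hne⟩ : ∃ s' : ℕ, s'.Prime ∧ s' ∣ n ∧ s' ≠ s := by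
        by_cases hps : p₀ = s
        · exact ⟨q₀, hq₀, hq₀d, fun h => hne₀ (h.trans hps.symm)⟩
        · exact ⟨p₀, hp₀, hp₀d, hps⟩
      have := hrad v hvg hvout s' hs' hs'd
      rw [hv] at this
      exact hne ((Nat.prime_dvd_prime_iff_eq hs' hs).1 (hs'.dvd_of_dvd_pow this))
    rcases hmix v y hvin hy hy' with h' | h'
    · exact hsd (hv ▸ orderOf_dvd_of_mem h')
    · have h1 := orderOf_dvd_of_mem h'
      rw [hv] at h1
      obtain ⟨s', hs', hs'd, hne⟩ : ∃ s' : ℕ, s'.Prime ∧ s' ∣ n ∧ s' ≠ s := by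
        by_cases hps : p₀ = s
        · exact ⟨q₀, hq₀, hq₀d, fun h => hne₀ (h.trans hps.symm)⟩
        · exact ⟨p₀, hp₀, hp₀d, hps⟩
      exact hne ((Nat.prime_dvd_prime_iff_eq hs' hs).1
        (hs'.dvd_of_dvd_pow ((hrad y hy hy' s' hs' hs'd).trans h1)))
  refine ⟨h, dvd_of_eq ?_⟩
  rw [hn, ← Nat.card_zpowers g, ← Nat.card_zpowers h]
  refine Nat.card_congr (e.subtypeEquiv fun y => ⟨hall y, fun hy => ?_⟩)
  exact (hNh y).1 (Or.inr hy)

/-- Power-graph isomorphisms preserve the existence of an element of order `p * q`. -/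
theorem exists_orderOf_eq_mul {H : Type*} [Group H] [Finite H] (e : G ≃ H)
    (he : ∀ x y : G, PAdj x y ↔ PAdj (e x) (e y)) {p q : ℕ} (hp : p.Prime)
    (hq : q.Prime) (hpq : p ≠ q) (hg : ∃ g : G, orderOf g = p * q) :
    ∃ h : H, orderOf h = p * q := by
  obtain ⟨g₀, hg₀⟩ := hg
  haveI : Nonempty {x : G // g₀ ∈ Subgroup.zpowers x} := ⟨⟨g₀, Subgroup.mem_zpowers g₀⟩⟩
  obtain ⟨⟨g, hgg⟩, hmax⟩ :=
    Finite.exists_max fun x : {x : G // g₀ ∈ Subgroup.zpowers x} => orderOf x.1
  have hd : p * q ∣ orderOf g := hg₀ ▸ orderOf_dvd_of_mem hgg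
  have hmax : ∀ x, g ∈ Subgroup.zpowers x → x ∈ Subgroup.zpowers g := fun x hx => by
    have h1 : orderOf x = orderOf g := le_antisymm (hmax ⟨x, Subgroup.zpowers_le.2 hx hgg⟩)
      (Nat.le_of_dvd (orderOf_pos x) (orderOf_dvd_of_mem hx))
    rw [zpowers_eq_of_mem hx (dvd_of_eq h1)]
    exact Subgroup.mem_zpowers x
  obtain ⟨h, hh⟩ := exists_orderOf_dvd e he hmax hp hq hpq
    ((dvd_mul_right p q).trans hd) ((dvd_mul_left q p).trans hd)
  exact ⟨h ^ (orderOf h / (p * q)), orderOf_pow_orderOf_div (orderOf_pos h).ne' (hd.trans hh)⟩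

end Cfsg.Agent.H87
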