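import Mathlib
import Cfsg.Agent.H22.Frobenius
import Cfsg.Agent.S0071

/-!
# Groups in which every non-abelian subgroup is self-normalizing
-/

set_option autoImplicit false

namespace Cfsg.Agent.H87

variable {G : Type*} [Group G] [Finite G]

theorem abelian_of_lt_of_hS
    (hS : ∀ H : Subgroup G, ¬ IsMulCommutative H → Subgroup.normalizer (H : Set G) = H)
    {p : ℕ} [Fact p.Prime] {P U : Subgroup G} (hP : IsPGroup p P) (hU : U < P) :
    IsMulCommutative U := by
  by_contra h
  have hN := hS U h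
  haveI : Group.IsNilpotent P := hP.isNilpotent
  have hlt : U.subgroupOf P < Subgroup.normalizer (U.subgroupOf P : Set P) := by
    refine Group.normalizerCondition_of_isNilpotent _ (lt_top_iff_ne_top.2 fun htop => ?_)
    exact hU.not_ge (Subgroup.subgroupOf_eq_top.1 htop)
  obtain ⟨x, hx, hxU⟩ := SetLike.exists_of_lt hlt
  refine hxU (Subgroup.mem_subgroupOf.2 (hN ▸ ?_))
  rw [Subgroup.mem_normalizer_iff]
  intro u
  rw [Subgroup.mem_normalizer_iff] at hx
  constructor
  · intro hu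
    have := (hx ⟨u, hU.le hu⟩).1 (Subgroup.mem_subgroupOf.2 hu)
    exact Subgroup.mem_subgroupOf.1 this
  · intro hu
    have huP : u ∈ P := by
      have := P.mul_mem (P.mul_mem (P.inv_mem x.2) (hU.le hu)) x.2
      simpa [mul_assoc] using this
    exact Subgroup.mem_subgroupOf.1 ((hx ⟨u, huP⟩).2 (Subgroup.mem_subgroupOf.2 hu))

/-- The image of a self-normalizing Sylow subgroup is self-normalizing. -/
theorem mem_map_of_mem_normalizer {A : Type*} [Group A] {f : G →* A} (hf : Function.Surjective f)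
    {p : ℕ} [Fact p.Prime] (S : Sylow p G)
    (hN : ∀ l ∈ Subgroup.normalizer ((S : Subgroup G) : Set G), l ∈ (S : Subgroup G))
    {a : A} (ha : a ∈ Subgroup.normalizer (((S : Subgroup G).map f : Subgroup A) : Set A)) :
    a ∈ (S : Subgroup G).map f := by
  obtain ⟨l, rfl⟩ := hf a
  set M : Subgroup G := ((S : Subgroup G).map f).comap f with hM
  have hSM : (S : Subgroup G) ≤ M := Subgroup.le_comap_map _ _
  have hlS : ((l • S : Sylow p G) : Subgroup G) ≤ M := by
    intro y hy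
    rw [Sylow.coe_subgroup_smul] at hy
    obtain ⟨s, hs, rfl⟩ := hy
    show f (l * s * l⁻¹) ∈ (S : Subgroup G).map f
    rw [map_mul, map_mul, map_inv]
    exact (Subgroup.mem_normalizer_iff.1 ha (f s)).1 (hSM hs)
  obtain ⟨m, hm⟩ := MulAction.exists_smul_eq M (S.subtype hSM) ((l • S).subtype hlS)
  rw [Sylow.smul_subtype] at hm
  have hm' : (m : G) • S = l • S := Sylow.subtype_injective hm
  have hfix : ((m : G)⁻¹ * l) • S = S := by rw [mul_smul, ← hm', inv_smul_smul]
  have h1 := hN _ (Sylow.smul_eq_iff_mem_normalizer.1 hfix)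
  have : f l = f (m : G) * f ((m : G)⁻¹ * l) := by rw [← map_mul, mul_inv_cancel_left]
  rw [this]
  exact mul_mem m.2 ⟨_, h1, rfl⟩

/-- Burnside's theorem, in the form used below. -/
theorem exists_burnside_kernel {A : Type*} [Group A] [Finite A] {p : ℕ} [Fact p.Prime]
    (S : Sylow p A) (hN : Subgroup.normalizer ((S : Subgroup A) : Set A) ≤
      Subgroup.centralizer ((S : Subgroup A) : Set A)) :
    ∃ O : Subgroup A, O.Normal ∧ O ⊓ (S : Subgroup A) = ⊥ ∧
      ∀ a : A, Nat.Coprime (orderOf a) p → a ∈ O := by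
  refine ⟨(MonoidHom.transferSylow S hN).ker, inferInstance,
    (MonoidHom.ker_transferSylow_isComplement' S hN).disjoint.eq_bot, fun a ha => ?_⟩
  rw [MonoidHom.mem_ker, ← orderOf_eq_one_iff]
  obtain ⟨i, hi⟩ := IsPGroup.iff_orderOf.1 S.2 (MonoidHom.transferSylow S hN a)
  rw [hi]
  refine Nat.eq_one_of_dvd_coprimes (ha.pow_right i) ?_ dvd_rfl
  rw [← hi]
  exact orderOf_map_dvd _ _

/-- If every non-abelian subgroup is self-normalizing, a non-abelian Sylow subgroup has a normal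
complement. -/
theorem exists_normal_complement_of_nonabelian_sylow
    (hS : ∀ H : Subgroup G, ¬ IsMulCommutative H → Subgroup.normalizer (H : Set G) = H)
    {p : ℕ} [Fact p.Prime] (R : Sylow p G) (hR : ¬ IsMulCommutative (R : Subgroup G)) :
    ∃ N : Subgroup G, N.Normal ∧ N.IsComplement' (R : Subgroup G) := by
  classical
  have hp : p.Prime := Fact.out
  rw [Cfsg.Agent.S0071.result R]
  intro Q hQR g hgN hcop
  by_contra hgC
  -- choose a largest such `Q`
  let Bad := {Q : Subgroup G // IsPGroup p Q ∧ ∃ g ∈ Subgroup.normalizer (Q : Set G),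
    Nat.Coprime (orderOf g) p ∧ g ∉ Subgroup.centralizer (Q : Set G)}
  haveI : Nonempty Bad := ⟨⟨Q, R.2.to_le hQR, g, hgN, hcop, hgC⟩⟩
  obtain ⟨⟨Q, hQp, g, hgN, hcop, hgC⟩, hmax⟩ := Finite.exists_max fun B : Bad => Nat.card B.1
  set L := Subgroup.normalizer (Q : Set G) with hL
  set C := Subgroup.centralizer (Q : Set G) with hC
  have hnoab : ∀ P : Sylow p G, ¬ IsMulCommutative (P : Subgroup G) := by
    intro P hP
    obtain ⟨c, hc⟩ := MulAction.exists_smul_eq G P R
    refine hR ?_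
    rw [← hc, Sylow.coe_subgroup_smul]
    haveI := hP
    exact Subgroup.map_isMulCommutative _ _
  have hCL : C ≤ L := fun c hc => by
    rw [hL, Subgroup.mem_normalizer_iff]
    intro h
    constructor
    · intro hh
      rw [← Subgroup.mem_centralizer_iff.1 hc h hh, mul_inv_cancel_right]; exact hh
    · intro hh
      have h1 := Subgroup.mem_centralizer_iff.1 hc _ hh
      have h2 : c * h * c⁻¹ = h := by
        have : c⁻¹ * (c * h * c⁻¹ * c) = c⁻¹ * (c * (c * h * c⁻¹)) := by rw [h1]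
        simpa [mul_assoc] using this.symm
      rwa [h2] at hh
  -- `Q` is not a Sylow subgroup
  have hQS : ∀ P : Sylow p G, Q ≠ P := by
    intro P h
    have hN : L = Q := by rw [hL, h]; exact hS _ (hnoab P)
    have hgQ : g ∈ Q := hN ▸ hgN
    obtain ⟨k, hk⟩ := IsPGroup.iff_orderOf.1 hQp ⟨g, hgQ⟩
    rw [Subgroup.orderOf_mk] at hk
    rw [hk] at hcop
    rcases Nat.eq_zero_or_pos k with rfl | hk0
    · rw [pow_zero, orderOf_eq_one_iff] at hk
      exact hgC (hk ▸ one_mem _)
    · exact hp.ne_one (by simpa [Nat.coprime_pow_left_iff hk0] using hcop)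
  have hQab : IsMulCommutative Q := by
    obtain ⟨P, hP⟩ := hQp.exists_le_sylow
    exact abelian_of_lt_of_hS hS P.2 (lt_of_le_of_ne hP (hQS P))
  have hQC : Q ≤ C := fun a ha => Subgroup.mem_centralizer_iff.2 fun b hb =>
    congrArg Subtype.val (mul_comm' (⟨b, hb⟩ : Q) ⟨a, ha⟩)
  haveI hC'n : (C.subgroupOf L).Normal := ⟨fun c hc l => by
    rw [Subgroup.mem_subgroupOf] at hc ⊢
    rw [hC, Subgroup.mem_centralizer_iff]
    intro q hq
    have hl := Subgroup.mem_normalizer_iff''.1 (show (l : G) ∈ Subgroup.normalizer (Q : Set G) from l.2)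
    have hq' : (l : G)⁻¹ * q * l ∈ Q := by
      rw [SetLike.mem_coe] at hq
      exact (hl q).1 hq
    have := Subgroup.mem_centralizer_iff.1 hc _ hq'
    simp only [Subgroup.coe_mul, Subgroup.coe_inv]
    calc q * ((l : G) * (c : G) * (l : G)⁻¹) = l * (((l : G)⁻¹ * q * l) * c) * (l : G)⁻¹ := by group
      _ = l * (c * ((l : G)⁻¹ * q * l)) * (l : G)⁻¹ := by rw [this]
      _ = _ := by group⟩
  -- `Q` is the Sylow subgroup of `C`
  have hQsyl : ∀ T : Subgroup G, IsPGroup p T → Q ≤ T → T ≤ C → T = Q := by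
    intro T hTp hQT hTC
    obtain ⟨S, hTS⟩ := (hTp.comap_subtype (K := C) : IsPGroup p (T.subgroupOf C)).exists_le_sylow
    set S' := (S : Subgroup C).map C.subtype with hS'
    have hTS' : T ≤ S' := fun t ht => ⟨⟨t, hTC ht⟩, hTS (Subgroup.mem_subgroupOf.2 ht), rfl⟩
    refine le_antisymm (fun t ht => ?_) hQT
    by_contra htQ
    -- Frattini argument in `L`
    set C' := C.subgroupOf L
    let eC : C' ≃* C := Subgroup.subgroupOfEquivOfLe hCL
    let S₁ : Sylow p C' := S.comapOfInjective eC.toMonoidHom eC.injective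
      (by intro x _; exact eC.surjective x)
    have hfr := Sylow.normalizer_sup_eq_top S₁ (N := C')
    have hg' : (⟨g, hgN⟩ : L) ∈ Subgroup.normalizer (((S₁ : Subgroup C').map C'.subtype : Subgroup L) : Set L) ⊔ C' := by
      rw [hfr]; exact Subgroup.mem_top _
    rw [← SetLike.mem_coe, Subgroup.mul_normal] at hg'
    obtain ⟨n, hn, c, hc, hnc⟩ := hg'
    rw [SetLike.mem_coe] at hn hc
    -- `n` normalizes `S'`
    have hmem : ∀ y : L, y ∈ (S₁ : Subgroup C').map C'.subtype ↔ (y : G) ∈ S' := by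
      intro y
      constructor
      · rintro ⟨z, hz, rfl⟩
        exact ⟨eC z, hz, rfl⟩
      · rintro ⟨z, hz, hzy⟩
        refine ⟨eC.symm z, ?_, Subtype.ext hzy⟩
        show eC (eC.symm z) ∈ (S : Subgroup C)
        rwa [eC.apply_symm_apply]
    have hS'C : S' ≤ C := Subgroup.map_subtype_le _
    have hnS : (n : G) ∈ Subgroup.normalizer (S' : Set G) := by
      rw [Subgroup.mem_normalizer_iff]
      intro s
      rw [Subgroup.mem_normalizer_iff] at hn
      constructor
      · intro hs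
        exact (hmem _).1 ((hn ⟨s, hCL (hS'C hs)⟩).1 ((hmem _).2 hs))
      · intro hs
        have hsL : s ∈ L := by
          have := L.mul_mem (L.mul_mem (L.inv_mem n.2) (hCL (hS'C hs))) n.2
          simpa [mul_assoc] using this
        exact (hmem _).1 ((hn ⟨s, hsL⟩).2 ((hmem _).2 hs))
    -- a power of `n` of order prime to `p` acting as `g`
    have hord := (Nat.coprime_ordCompl hp (orderOf_pos (n : G)).ne')
    obtain ⟨k, hk1, hk2⟩ := Nat.chineseRemainder
      (show Nat.Coprime (orderOf g) (p ^ (orderOf (n : G)).factorization p) from hcop.pow_right _) 1 0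
    have hgn : g = n * (c : G) := (congrArg Subtype.val hnc).symm
    have hact : ∀ m : ℕ, ∀ q ∈ Q, g ^ m * q * (g ^ m)⁻¹ = (n : G) ^ m * q * ((n : G) ^ m)⁻¹ := by
      intro m
      induction m with
      | zero => simp
      | succ m ih =>
        intro q hq
        have hq' : (n : G) * q * (n : G)⁻¹ ∈ Q := by
          exact ((Subgroup.mem_normalizer_iff.1 (show (n : G) ∈ Subgroup.normalizer (Q : Set G) from n.2)) q).1 hq
        have hcq : (c : G) * q * (c : G)⁻¹ = q := by
          rw [← Subgroup.mem_centralizer_iff.1 (Subgroup.mem_subgroupOf.1 hc : (c : G) ∈ C) q hq, mul_inv_cancel_right]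
        calc g ^ (m + 1) * q * (g ^ (m + 1))⁻¹ = g ^ m * (g * q * g⁻¹) * (g ^ m)⁻¹ := by
              rw [pow_succ]; group
          _ = g ^ m * ((n : G) * ((c : G) * q * (c : G)⁻¹) * (n : G)⁻¹) * (g ^ m)⁻¹ := by rw [hgn]; group
          _ = (n : G) ^ m * ((n : G) * q * (n : G)⁻¹) * ((n : G) ^ m)⁻¹ := by rw [hcq, ih _ hq']
          _ = _ := by rw [pow_succ]; group
    have hgk : g ^ k = g := by
      rw [← pow_one g, ← pow_mul, one_mul, pow_inj_mod]; exact hk1
    have hbad : IsPGroup p S' ∧ ∃ g ∈ Subgroup.normalizer (S' : Set G),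
        Nat.Coprime (orderOf g) p ∧ g ∉ Subgroup.centralizer (S' : Set G) := by
      refine ⟨S.2.map _, (n : G) ^ k, Subgroup.pow_mem _ hnS k, ?_, fun hcen => hgC ?_⟩
      · obtain ⟨a, ha⟩ := (Nat.modEq_zero_iff_dvd.1 hk2)
        refine Nat.Coprime.coprime_dvd_left (orderOf_dvd_of_pow_eq_one ?_) hord.symm
        rw [← pow_mul, ha, mul_comm (p ^ _) a, mul_assoc, Nat.ordProj_mul_ordCompl_eq_self, mul_comm,
          pow_mul, pow_orderOf_eq_one, one_pow]
      · rw [hC, Subgroup.mem_centralizer_iff]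
        intro q hq
        have h1 := hact k q hq
        rw [hgk, ← Subgroup.mem_centralizer_iff.1 hcen q (hTS' (hQT hq)), mul_inv_cancel_right] at h1
        exact (mul_inv_eq_iff_eq_mul.1 h1).symm
    have h1 := hmax ⟨S', hbad⟩
    have h2 : Nat.card Q < Nat.card S' := by
      refine lt_of_lt_of_le ?_ (Subgroup.card_le_of_le hTS')
      by_contra h
      exact htQ ((Subgroup.eq_of_le_of_card_ge hQT (not_lt.1 h)) ▸ ht)
    exact absurd h1 (not_le.2 h2)
  -- a Sylow subgroup of `G` normalizing `Q`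
  obtain ⟨P₁⟩ : Nonempty (Sylow p L) := inferInstance
  set P₁' := (P₁ : Subgroup L).map L.subtype with hP₁'
  obtain ⟨P, hPP⟩ := (P₁.2.map L.subtype).exists_le_sylow
  have hPL : (P : Subgroup G) ≤ L := by
    have hQP₁ : Q ≤ P₁' := by
      haveI hn : (Q.subgroupOf L).Normal := Subgroup.normal_in_normalizer
      have hQ1 : IsPGroup p (Q.subgroupOf L) := hQp.comap_subtype
      have := hQ1.le_sylow_of_normal P₁
      intro q hq
      exact ⟨⟨q, Subgroup.le_normalizer hq⟩, this (Subgroup.mem_subgroupOf.2 hq), rfl⟩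
    by_contra hPL
    have hlt : P₁' < P := lt_of_le_of_ne hPP fun h => hPL (h ▸ Subgroup.map_subtype_le _)
    have hab := abelian_of_lt_of_hS hS P.2 hlt
    have hle : P₁' ≤ C := fun a ha => Subgroup.mem_centralizer_iff.2 fun b hb =>
      congrArg Subtype.val (mul_comm' (⟨b, hQP₁ hb⟩ : P₁') ⟨a, ha⟩)
    have hPQ : P₁' = Q := hQsyl _ (P₁.2.map _) hQP₁ hle
    -- then `N_P(Q) = Q`
    haveI : Group.IsNilpotent (P : Subgroup G) := P.2.isNilpotent
    have hlt' : Q.subgroupOf P < Subgroup.normalizer (Q.subgroupOf P : Set (P : Subgroup G)) := by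
      refine Group.normalizerCondition_of_isNilpotent _ (lt_top_iff_ne_top.2 fun htop => ?_)
      exact hlt.not_ge (hPQ ▸ Subgroup.subgroupOf_eq_top.1 htop)
    obtain ⟨x, hx, hxQ⟩ := SetLike.exists_of_lt hlt'
    refine hxQ (Subgroup.mem_subgroupOf.2 ?_)
    have hQP : Q ≤ P := hPQ ▸ hPP
    have hxL : (x : G) ∈ L := by
      rw [hL, Subgroup.mem_normalizer_iff]
      intro u
      rw [Subgroup.mem_normalizer_iff] at hx
      constructor
      · intro hu
        exact Subgroup.mem_subgroupOf.1 ((hx ⟨u, hQP hu⟩).1 (Subgroup.mem_subgroupOf.2 hu))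
      · intro hu
        have huP : u ∈ (P : Subgroup G) := by
          have := (P : Subgroup G).mul_mem ((P : Subgroup G).mul_mem ((P : Subgroup G).inv_mem x.2) (hQP hu)) x.2
          simpa [mul_assoc] using this
        exact Subgroup.mem_subgroupOf.1 ((hx ⟨u, huP⟩).2 (Subgroup.mem_subgroupOf.2 hu))
    rw [← hPQ]
    have h2 : (P₁ : Subgroup L) = ((P : Subgroup G).subgroupOf L) :=
      (P₁.3 P.2.comap_subtype fun y hy => hPP ⟨y, hy, rfl⟩).symm
    exact ⟨⟨x, hxL⟩, h2 ▸ Subgroup.mem_subgroupOf.2 x.2, rfl⟩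
  have hQP : Q ≤ P := by
    haveI hn : (Q.subgroupOf L).Normal := Subgroup.normal_in_normalizer
    have hQ1 : IsPGroup p (Q.subgroupOf L) := hQp.comap_subtype
    have := hQ1.le_sylow_of_normal (P.subtype hPL)
    intro q hq
    exact Subgroup.mem_subgroupOf.1 (this (Subgroup.mem_subgroupOf.2 hq : (⟨q, Subgroup.le_normalizer hq⟩ : L) ∈ _))
  have hQlt : Q < P := lt_of_le_of_ne hQP (hQS P)
  have hPC : ∀ x ∈ (P : Subgroup G), x ∈ C → x ∈ Q := fun x hx hxC => by
    have := hQsyl ((P : Subgroup G) ⊓ C) (P.2.to_le inf_le_left) (le_inf hQP hQC) inf_le_right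
    exact this ▸ ⟨hx, hxC⟩
  have hgenP : ∀ x ∈ (P : Subgroup G), x ∉ Q → Q ⊔ Subgroup.zpowers x = P := by
    intro x hx hxQ
    by_contra hne
    have hle : Q ⊔ Subgroup.zpowers x ≤ P := sup_le hQP (Subgroup.zpowers_le.2 hx)
    have hab := abelian_of_lt_of_hS hS P.2 (lt_of_le_of_ne hle hne)
    refine hxQ (hPC x hx (Subgroup.mem_centralizer_iff.2 fun b hb => ?_))
    exact congrArg Subtype.val (mul_comm' (⟨b, Subgroup.mem_sup_left hb⟩ : ↥(Q ⊔ Subgroup.zpowers x))
      ⟨x, Subgroup.mem_sup_right (Subgroup.mem_zpowers x)⟩)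
  obtain ⟨x, hxP, hxQ⟩ := SetLike.exists_of_lt hQlt
  -- the automizer
  set π := QuotientGroup.mk' (C.subgroupOf L) with hπ
  set A := L ⧸ C.subgroupOf L
  let PA : Sylow p A := (P.subtype hPL).mapSurjective (QuotientGroup.mk'_surjective _)
  have hmemPA : ∀ l : L, π l ∈ (PA : Subgroup A) ↔ ∃ y : L, (y : G) ∈ P ∧ (y⁻¹ * l : L) ∈ C.subgroupOf L := by
    intro l
    constructor
    · rintro ⟨y, hy, e⟩
      exact ⟨y, hy, QuotientGroup.eq.1 e⟩
    · rintro ⟨y, hy, e⟩
      exact ⟨y, hy, QuotientGroup.eq.2 e⟩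
  have hPAab : ∀ a ∈ (PA : Subgroup A), ∀ b ∈ (PA : Subgroup A), a * b = b * a := by
    have hz : (PA : Subgroup A) ≤ Subgroup.zpowers (π ⟨x, hPL hxP⟩) := by
      rintro _ ⟨y, hy, rfl⟩
      have hy' : (y : G) ∈ Q ⊔ Subgroup.zpowers x := (hgenP x hxP hxQ).symm ▸ hy
      have hxn : Subgroup.zpowers x ≤ Subgroup.normalizer (Q : Set G) :=
        Subgroup.zpowers_le.2 (hPL hxP)
      rw [sup_comm, ← SetLike.mem_coe, Subgroup.coe_mul_of_left_le_normalizer_right _ _ hxn] at hy'
      obtain ⟨_, ⟨i, rfl⟩, q, hq, hqi⟩ := hy'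
      refine ⟨i, ?_⟩
      show π ⟨x, hPL hxP⟩ ^ i = π y
      rw [← map_zpow]
      refine QuotientGroup.eq.2 (Subgroup.mem_subgroupOf.2 ?_)
      show (x ^ i)⁻¹ * (y : G) ∈ C
      rw [← hqi]
      simpa using hQC hq
    intro a ha b hb
    obtain ⟨i, rfl⟩ := hz ha
    obtain ⟨j, rfl⟩ := hz hb
    exact ((Commute.refl _).zpow_zpow i j).eq
  have hNPA : Subgroup.normalizer ((PA : Subgroup A) : Set A) ≤
      Subgroup.centralizer ((PA : Subgroup A) : Set A) := by
    intro a ha
    have haP : a ∈ (PA : Subgroup A) := by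
      refine mem_map_of_mem_normalizer (QuotientGroup.mk'_surjective _) (P.subtype hPL) ?_ ha
      intro l hl
      show (l : G) ∈ (P : Subgroup G)
      rw [← hS _ (hnoab P), Subgroup.mem_normalizer_iff]
      intro u
      rw [Subgroup.mem_normalizer_iff] at hl
      constructor
      · intro hu
        exact (hl ⟨u, hPL hu⟩).1 hu
      · intro hu
        have huL : u ∈ L := by
          have := L.mul_mem (L.mul_mem (L.inv_mem l.2) (hPL hu)) l.2
          simpa [mul_assoc] using this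
        exact (hl ⟨u, huL⟩).2 hu
    exact Subgroup.mem_centralizer_iff.2 fun b hb => hPAab b hb a haP
  obtain ⟨O, hOn, hdisj, hOmem⟩ := exists_burnside_kernel PA hNPA
  let K : Subgroup G := (O.comap π).map L.subtype
  have hLK : L ≤ Subgroup.normalizer (K : Set G) := by
    intro l hl
    rw [Subgroup.mem_normalizer_iff]
    intro y
    constructor
    · rintro ⟨z, hz, rfl⟩
      exact ⟨⟨l, hl⟩ * z * ⟨l, hl⟩⁻¹, (hOn.comap π).conj_mem z hz _, rfl⟩
    · rintro ⟨z, hz, e⟩
      refine ⟨⟨l, hl⟩⁻¹ * z * ⟨l, hl⟩, ?_, ?_⟩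
      · simpa using (hOn.comap π).conj_mem z hz (⟨l, hl⟩⁻¹)
      · have e : (z : G) = l * y * l⁻¹ := e
        simp [e, mul_assoc]
  have hgK : g ∈ K := by
    refine ⟨⟨g, hgN⟩, ?_, rfl⟩
    refine hOmem _ (Nat.Coprime.coprime_dvd_left (orderOf_map_dvd _ _) ?_)
    rwa [Subgroup.orderOf_mk]
  have hCK : C ≤ K := fun c hc => ⟨⟨c, hCL hc⟩, by
    show π ⟨c, hCL hc⟩ ∈ O
    rw [show π ⟨c, hCL hc⟩ = 1 from (QuotientGroup.eq_one_iff _).2 (Subgroup.mem_subgroupOf.2 hc)]
    exact one_mem _, rfl⟩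
  have hKna : ¬ IsMulCommutative K := fun h => hgC (Subgroup.mem_centralizer_iff.2 fun q hq =>
    congrArg Subtype.val (mul_comm' (⟨q, hCK (hQC hq)⟩ : K) ⟨g, hgK⟩))
  have hxK : x ∈ K := by rw [← hS K hKna]; exact hLK (hPL hxP)
  obtain ⟨z, hz, e⟩ := hxK
  have hz' : π z ∈ O ⊓ (PA : Subgroup A) :=
    ⟨hz, ⟨z, by show (z : G) ∈ (P : Subgroup G); rw [show (z : G) = x from e]; exact hxP, rfl⟩⟩
  rw [hdisj, Subgroup.mem_bot] at hz'
  refine hxQ (hPC x hxP ?_)
  rw [← (show (z : G) = x from e)]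
  exact Subgroup.mem_subgroupOf.1 ((QuotientGroup.eq_one_iff z).1 hz')

end Cfsg.Agent.H87
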