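import Mathlib
import Cfsg.Agent.H87.SymEightIndex
import Cfsg.Agent.H87.SymEightEndgame

/-!
The index four branch of the three-local recognition of the symmetric group of degree eight,
with the endgame inserted.
-/

set_option autoImplicit false

namespace Cfsg.Agent.H87.SymEight

open Equiv Cfsg.Agent.H34.SymEight

universe u

/-- The index four branch, unconditional. -/
theorem index_four_done {G : Type u} [Group G] [Finite G]
    (Φ : alternatingGroup (Fin 5) × alternatingGroup (Fin 5) →* G) (hinj : Function.Injective Φ)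
    (κ : MulAut (alternatingGroup (Fin 5)))
    (hκ : ∀ a, ((κ a : alternatingGroup (Fin 5)) : Perm (Fin 5)) = c5 * a * c5)
    (θ : alternatingGroup (Fin 5)) (hθ : (θ : Perm (Fin 5)) = t5)
    (c q : G) (hc : c * c = 1) (hc1 : c ≠ 1) (hq : q * q = 1) (hcq : Commute c q)
    (hΦc : ∀ a b, c * Φ (a, b) * c = Φ (κ a, κ b))
    (hΦq : ∀ a b, q * Φ (a, b) * q = Φ (b, a))
    (hcM : c ∉ Φ.range)
    (hCc : Nat.card (Subgroup.centralizer ({c} : Set G)) = 144)
    (hCcH : Subgroup.centralizer ({c} : Set G) ≤ Subgroup.closure ((Φ.range : Set G) ∪ {c, q}))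
    (hCc3 : ∀ g ∈ Subgroup.centralizer ({c} : Set G), g ^ 3 = 1 →
      ∃ i j : ℕ, g = Φ (θ ^ i, θ ^ j))
    (hC1 : Subgroup.centralizer ({Φ (θ, 1)} : Set G) ≤ Subgroup.closure ((Φ.range : Set G) ∪ {c, q}))
    (hC2 : Subgroup.centralizer ({Φ (1, θ)} : Set G) ≤ Subgroup.closure ((Φ.range : Set G) ∪ {c, q}))
    (hC12 : Subgroup.centralizer ({Φ (θ, θ)} : Set G) ≤ Subgroup.closure ((Φ.range : Set G) ∪ {c, q}))
    (h360 : Nat.card (Subgroup.centralizer ({Φ (θ, 1)} : Set G)) = 360)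
    (h36 : Nat.card (Subgroup.centralizer ({Φ (θ, θ)} : Set G)) = 36)
    (h27 : ¬ 27 ∣ Nat.card G)
    (hCD : ∀ g : G, Commute g (Φ (θ, 1)) → Commute g (Φ (1, θ)) → g * g = 1 → g = 1 ∨ g = c) :
    Φ.range.Normal ∧ Φ.range.index = 4 ∧ ∀ g : G, g * g ∈ Φ.range :=
  index_four Φ hinj κ hκ θ hθ c q hc hc1 hq hcq hΦc hΦq hcM hCc hCcH hCc3 hC1 hC2 hC12 h360 h36
    h27 hCD fun _ _ _ Ψ hΨ hodd h3 => endgame Ψ hΨ hodd h3

end Cfsg.Agent.H87.SymEight
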